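import Cfsg.Prelude.Def_Transfer
import Cfsg.Agent.H1.Fitting
import Cfsg.Agent.H1.Hall
import Cfsg.Agent.H1.CoprimeAction2
import Cfsg.Agent.H5.Fusion
import Cfsg.Agent.H5.Burnside
import Cfsg.Agent.H5.AbelianHall
import Cfsg.Agent.H62.Basic
import Cfsg.Agent.H75.Basic
import Cfsg.Agent.H10.PSolvable
import Cfsg.Agent.CompBasic

/-!
Groups all of whose subgroups of order prime to `p` are abelian of exponent dividing `p - 1`:
the hypothesis, and general facts on a minimal counterexample to solvability.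
-/

set_option autoImplicit false

open scoped Pointwise commutatorElement

namespace H72.PrimeAbelian

universe u

/-- Every subgroup of order prime to `p` is abelian of exponent dividing `p - 1`. -/
def PAb (p : ℕ) (G : Type u) [Group G] : Prop :=
  ∀ H : Subgroup G, (Nat.card H).Coprime p → IsMulCommutative H ∧ ∀ x ∈ H, x ^ (p - 1) = 1

/-- A minimal insoluble group with this property, `p ≥ 5`. -/
structure Ctx (p : ℕ) (G : Type u) [Group G] : Prop where
  five : 5 ≤ p
  hyp : PAb p G
  simple : IsSimpleGroup G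
  nonab : ¬ IsMulCommutative G
  proper : ∀ H : Subgroup G, H ≠ ⊤ → Group.IsSolvable H

variable {p : ℕ} [hp : Fact p.Prime] {G : Type u} [Group G] [Finite G]

theorem PAb.subgroup (h : PAb p G) (M : Subgroup G) : PAb p M := by
  intro H hH
  obtain ⟨h1, h2⟩ := h (H.map M.subtype) (by rwa [Subgroup.card_subtype])
  refine ⟨⟨⟨fun a b => ?_⟩⟩, fun x hx => Subtype.ext ?_⟩
  · refine Subtype.ext (Subtype.ext ?_)
    simpa using congrArg Subtype.val
      (h1.is_comm.comm (⟨(a : M), _, a.2, rfl⟩ : H.map M.subtype) ⟨(b : M), _, b.2, rfl⟩)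
  · simpa using h2 _ ⟨x, hx, rfl⟩

/-! ### Solvable groups with an abelian Hall subgroup of `p`-power index -/

/-- If `K` is an abelian Hall `p'`-subgroup of the solvable group `L`, then `O_p(L) K` is normal,
and `O_p(L)` contains every `p`-subgroup normalised by `K`. -/
theorem abelianHall_core {L : Type u} [Group L] [Finite L] (hs : Group.IsSolvable L)
    (K : Subgroup L) [hc : IsMulCommutative K] (hK : (Nat.card K).Coprime p) {k : ℕ}
    (hcard : Nat.card L = Nat.card K * p ^ k) :
    (Cfsg.pCore p L ⊔ K).Normal ∧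
      ∀ A : Subgroup L, IsPGroup p A → K ≤ Subgroup.normalizer (A : Set L) →
        A ≤ Cfsg.pCore p L := by
  haveI := H1.pCore_normal' p L
  set O := Cfsg.pCore p L with hO
  set f := QuotientGroup.mk' O with hf
  set Kb := K.map f with hKb
  haveI : Group.IsSolvable (L ⧸ O) := inferInstance
  set F := Cfsg.fittingSubgroup (L ⧸ O) with hF
  haveI : F.Normal := H1.fittingSubgroup_normal _
  have hKbc : IsMulCommutative Kb := inferInstanceAs (IsMulCommutative (K.map f))
  have hKbcard : Nat.card Kb ∣ Nat.card K := Subgroup.card_map_dvd _ _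
  have hFp : (Nat.card F).Coprime p := by
    refine Nat.Coprime.symm (hp.out.coprime_iff_not_dvd.mpr fun hdvd => ?_)
    obtain ⟨P⟩ : Nonempty (Sylow p F) := inferInstance
    haveI hnil : Group.IsNilpotent F := H1.isNilpotent_fittingSubgroup _
    haveI hPn : (P : Subgroup F).Normal :=
      (Group.isNilpotent_of_finite_tfae.out 0 3 rfl rfl).mp hnil p hp P
    haveI hPc : (P : Subgroup F).Characteristic := P.characteristic_of_normal hPn
    have hn : ((P : Subgroup F).map F.subtype).Normal := ConjAct.normal_of_characteristic_of_normal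
    have hle : (P : Subgroup F).map F.subtype ≤ Cfsg.pCore p (L ⧸ O) :=
      Cfsg.Comp.le_pCore hn (P.2.map _)
    rw [H10.pCore_quotient_pCore, le_bot_iff,
      Subgroup.map_eq_bot_iff_of_injective _ F.subtype_injective] at hle
    exact P.ne_bot_of_dvd_card hdvd hle
  have hFK : F ≤ Kb := by
    have hsup : ¬ p ∣ Nat.card ↥(F ⊔ Kb) := by
      rw [sup_comm]
      exact Cfsg.Comp.not_dvd_card_sup
        (le_top.trans (Subgroup.normalizer_eq_top_iff.mpr inferInstance).ge)
        (hp.out.coprime_iff_not_dvd.mp (hK.coprime_dvd_left hKbcard).symm)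
        (hp.out.coprime_iff_not_dvd.mp hFp.symm)
    have h1 : Nat.card ↥(F ⊔ Kb) ∣ Nat.card K := by
      have hcp : (Nat.card ↥(F ⊔ Kb)).Coprime (p ^ k) :=
        Nat.Coprime.pow_right _ (hp.out.coprime_iff_not_dvd.mpr hsup).symm
      refine hcp.dvd_of_dvd_mul_right ?_
      rw [← hcard]
      exact (Subgroup.card_subgroup_dvd_card _).trans (Subgroup.card_quotient_dvd_card O)
    have h2 : Nat.card K = Nat.card Kb := by
      refine (Nat.card_congr (Equiv.ofBijective
        (fun x : K => (⟨f x, x, x.2, rfl⟩ : Kb)) ⟨?_, ?_⟩))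
      · intro a b hab
        have hab' : f a = f b := congrArg Subtype.val hab
        have hmem : (a : L)⁻¹ * b ∈ O := QuotientGroup.eq.mp hab'
        have hmemK : (a : L)⁻¹ * b ∈ K := K.mul_mem (K.inv_mem a.2) b.2
        have h0 : (a : L)⁻¹ * b = 1 := by
          have := Cfsg.Comp.inf_eq_bot_of_isPGroup (p := p) (H := O) (K := K) (H1.isPGroup_pCore p L)
            (hp.out.coprime_iff_not_dvd.mp hK.symm)
          exact Subgroup.mem_bot.mp (this ▸ Subgroup.mem_inf.mpr ⟨hmem, hmemK⟩)
        exact Subtype.ext (inv_mul_eq_one.mp h0)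
      · rintro ⟨_, x, hx, rfl⟩
        exact ⟨⟨x, hx⟩, rfl⟩
    have h3 : Nat.card ↥(F ⊔ Kb) = Nat.card Kb :=
      Nat.dvd_antisymm (h2 ▸ h1) (Subgroup.card_dvd_of_le le_sup_right)
    rw [Subgroup.eq_of_le_of_card_ge le_sup_right h3.le]
    exact le_sup_left
  have hKF : Kb ≤ F := by
    refine le_trans ?_ (H1.centralizer_fitting_le_of_isSolvable inferInstance)
    intro x hx y hy
    exact congrArg Subtype.val (hKbc.is_comm.comm ⟨y, hFK hy⟩ ⟨x, hx⟩)
  have hKbF : Kb = F := le_antisymm hKF hFK
  haveI hKbn : Kb.Normal := hKbF ▸ inferInstance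
  constructor
  · have : Kb.comap f = O ⊔ K := by
      rw [hKb, Subgroup.comap_map_eq, hf, QuotientGroup.ker_mk', sup_comm]
    rw [← this]; infer_instance
  · intro A hA hKA
    have h1 : ⁅A.map f, Kb⁆ = ⊥ := by
      refine le_bot_iff.mp (le_trans (le_inf ?_ (Subgroup.commutator_le_right _ _))
        (le_of_eq (Cfsg.Comp.inf_eq_bot_of_isPGroup (p := p) (hA.map f)
          (hp.out.coprime_iff_not_dvd.mp (hK.coprime_dvd_left hKbcard).symm))))
      rw [hKb, ← Subgroup.map_commutator]
      exact Subgroup.map_mono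
        (H1.commutator_le_left_of_le_normalizer hKA)
    have h2 : A.map f ≤ Kb := by
      rw [Subgroup.commutator_eq_bot_iff_le_centralizer, hKbF] at h1
      exact (h1.trans (H1.centralizer_fitting_le_of_isSolvable inferInstance)).trans hFK
    have h3 : A.map f = ⊥ := by
      rw [← inf_eq_left.mpr h2]
      exact Cfsg.Comp.inf_eq_bot_of_isPGroup (p := p) (hA.map f)
        (hp.out.coprime_iff_not_dvd.mp (hK.coprime_dvd_left hKbcard).symm)
    rwa [Subgroup.map_eq_bot_iff, hf, QuotientGroup.ker_mk'] at h3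

/-! ### General facts on the minimal group -/

namespace Ctx

variable (c : Ctx p G)
include c

omit [Finite G] in
theorem two_ne : p ≠ 2 := by have := c.five; omega

theorem center_eq_bot : Subgroup.center G = ⊥ :=
  haveI := c.simple
  H62.center_eq_bot_of_simple c.nonab

theorem not_isPGroup (q : ℕ) [Fact q.Prime] : ¬ IsPGroup q G :=
  haveI := c.simple
  H62.not_isPGroup_of_simple c.nonab q

theorem centralizer_ne_top {x : G} (hx : x ≠ 1) : Subgroup.centralizer ({x} : Set G) ≠ ⊤ := by
  intro h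
  refine hx (Subgroup.mem_bot.mp (c.center_eq_bot ▸ Subgroup.mem_center_iff.mpr fun g => ?_))
  exact (Subgroup.mem_centralizer_singleton_iff.mp (h ▸ Subgroup.mem_top g))

theorem normalizer_ne_top {A : Subgroup G} (h1 : A ≠ ⊥) (h2 : A ≠ ⊤) :
    Subgroup.normalizer (A : Set G) ≠ ⊤ := by
  intro h
  haveI := c.simple
  rcases (Subgroup.normalizer_eq_top_iff.mp h).eq_bot_or_eq_top with h' | h'
  exacts [h1 h', h2 h']

theorem ne_top_of_coprime {A : Subgroup G} (hA : (Nat.card A).Coprime p) : A ≠ ⊤ := by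
  rintro rfl
  exact c.nonab ⟨⟨fun a b => congrArg Subtype.val
    ((c.hyp ⊤ hA).1.is_comm.comm ⟨a, trivial⟩ ⟨b, trivial⟩)⟩⟩

theorem pgroup_ne_top {A : Subgroup G} (hA : IsPGroup p A) : A ≠ ⊤ := by
  rintro rfl
  exact c.not_isPGroup p (hA.of_equiv Subgroup.topEquiv)

theorem comm_of_coprime {A : Subgroup G} (hA : (Nat.card A).Coprime p) {a b : G} (ha : a ∈ A)
    (hb : b ∈ A) : a * b = b * a :=
  congrArg Subtype.val ((c.hyp A hA).1.is_comm.comm ⟨a, ha⟩ ⟨b, hb⟩)

/-- A `p'`-subgroup is centralised by every `p'`-subgroup normalising it. -/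
theorem le_centralizer_of_normalizes {A B : Subgroup G} (hA : (Nat.card A).Coprime p)
    (hB : (Nat.card B).Coprime p) (h : A ≤ Subgroup.normalizer (B : Set G)) :
    A ≤ Subgroup.centralizer (B : Set G) := by
  have hcop : (Nat.card ↥(A ⊔ B)).Coprime p :=
    (hp.out.coprime_iff_not_dvd.mpr (Cfsg.Comp.not_dvd_card_sup h
      (hp.out.coprime_iff_not_dvd.mp hA.symm) (hp.out.coprime_iff_not_dvd.mp hB.symm))).symm
  intro a ha b hb
  exact c.comm_of_coprime hcop (Subgroup.mem_sup_right hb) (Subgroup.mem_sup_left ha)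

/-- A `p'`-element normalising a `p'`-subgroup centralises it. -/
theorem mem_centralizer_of_normalizes {B : Subgroup G} (hB : (Nat.card B).Coprime p) {g : G}
    (hg : (orderOf g).Coprime p) (h : g ∈ Subgroup.normalizer (B : Set G)) :
    g ∈ Subgroup.centralizer (B : Set G) :=
  c.le_centralizer_of_normalizes (A := Subgroup.zpowers g) (by rwa [Nat.card_zpowers]) hB
    ((Subgroup.zpowers_le).mpr h) (Subgroup.mem_zpowers g)

/-- An element of an abelian Sylow subgroup centralised by the normaliser is trivial. -/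
theorem eq_one_of_central {q : ℕ} [Fact q.Prime] (Q : Sylow q G)
    [IsMulCommutative (Q : Subgroup G)] {y : G} (hyQ : y ∈ (Q : Subgroup G))
    (hy : y ∈ Subgroup.centralizer (Subgroup.normalizer ((Q : Subgroup G) : Set G) : Set G)) :
    y = 1 := by
  have hperf : commutator G = ⊤ := by
    haveI := c.simple
    rcases (inferInstance : (commutator G).Normal).eq_bot_or_eq_top with h | h
    · exact absurd (⟨⟨fun a b => commutatorElement_eq_one_iff_mul_comm.mp
        (Subgroup.mem_bot.mp (h ▸ Subgroup.commutator_mem_commutator (Subgroup.mem_top a)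
          (Subgroup.mem_top b)))⟩⟩) c.nonab
    · exact h
  have h1 := H5.commutator_inf_eq_of_control (H := (Q : Subgroup G)) Q.card_coprime_index
    Subgroup.le_normalizer (fun x hx g hg => H5.control_of_commutative Q x hx g hg)
  rw [hperf, top_inf_eq] at h1
  exact Subgroup.mem_bot.mp ((H5.abelian_sylow_decomp Q).2 ▸
    ⟨((Subgroup.mem_inf.mp (h1 ▸ hyQ)).1), hyQ, hy⟩)

/-- For an abelian Sylow subgroup of order prime to `p` some `p`-element of the normaliser acts
nontrivially. -/
theorem exists_pElement_moving {q : ℕ} [Fact q.Prime] (Q : Sylow q G) (hq : q ≠ p)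
    (hdvd : q ∣ Nat.card G) :
    ∃ g ∈ Subgroup.normalizer ((Q : Subgroup G) : Set G), (∃ k, g ^ p ^ k = 1) ∧
      g ∉ Subgroup.centralizer ((Q : Subgroup G) : Set G) := by
  have hQ : (Nat.card (Q : Subgroup G)).Coprime p := by
    obtain ⟨n, hn⟩ := IsPGroup.iff_card.mp Q.2
    rw [hn]
    exact Nat.Coprime.pow_left _ ((Nat.coprime_primes (Fact.out) hp.out).mpr hq)
  by_contra hcon
  push Not at hcon
  haveI := c.simple
  refine H62.not_normalizer_le_centralizer c.nonab hdvd Q ?_
  refine H5.normalizer_le_centralizer_of_forall _ fun r hr g hg hgr => ?_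
  by_cases hrp : r = p
  · subst hrp; exact hcon g hg hgr
  · obtain ⟨k, hk⟩ := hgr
    refine c.mem_centralizer_of_normalizes hQ ?_ hg
    exact (Nat.Coprime.pow_left k ((Nat.coprime_primes hr hp.out).mpr hrp)).coprime_dvd_left
      (orderOf_dvd_of_pow_eq_one hk)

/-- A Hall `p'`-subgroup of a proper subgroup above a given `p'`-subgroup. -/
theorem exists_hall_ge {Y A : Subgroup G} (hY : Y ≠ ⊤) (hAY : A ≤ Y)
    (hA : (Nat.card A).Coprime p) :
    ∃ H : Subgroup G, A ≤ H ∧ H ≤ Y ∧ (Nat.card H).Coprime p ∧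
      ∃ k : ℕ, Nat.card Y = Nat.card H * p ^ k := by
  haveI := c.proper Y hY
  obtain ⟨H, hAH, hH, hH'⟩ := H1.hall_pi_exists_ge (G := Y) (fun r => r ≠ p) (A.subgroupOf Y)
    (fun r hr hd hrp => by
      rw [Nat.card_congr (Subgroup.subgroupOfEquivOfLe hAY).toEquiv] at hd
      exact hp.out.coprime_iff_not_dvd.mp hA.symm (hrp ▸ hd))
  have hHc : (Nat.card H).Coprime p :=
    (hp.out.coprime_iff_not_dvd.mpr fun hd => hH p hp.out hd rfl).symm
  refine ⟨H.map Y.subtype, ?_, Subgroup.map_subtype_le _, by rwa [Subgroup.card_subtype], ?_⟩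
  · have := Subgroup.map_mono (f := Y.subtype) hAH
    rwa [Subgroup.map_subgroupOf_eq_of_le hAY] at this
  · refine ⟨(H.index).factorization p, ?_⟩
    rw [Subgroup.card_subtype, ← H.card_mul_index]
    congr 1
    have he := Nat.eq_prime_pow_of_unique_prime_dvd Subgroup.index_ne_zero_of_finite
      (fun {r} hr hd => not_not.mp fun hrp => hH' r hr hd hrp : ∀ {r : ℕ}, r.Prime → r ∣ H.index → r = p)
    conv_rhs => rw [he, Nat.Prime.factorization_pow hp.out, Finsupp.single_eq_same]
    exact he

end Ctx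

end H72.PrimeAbelian
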