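import Cfsg.Agent.H72.PrimeAbelian.NoCore
import Cfsg.Agent.H31.Basic

/-!
Counting involutions in the cosets of `M`.
-/

set_option autoImplicit false

open scoped Pointwise commutatorElement

namespace H72.PrimeAbelian

universe u

variable {p : ℕ} [hp : Fact p.Prime] {G : Type u} [Group G] [Finite G]

/-- `E` is normal elementary of order `p + 1` in the strongly embedded subgroup `M`, contains all
its involutions, and `M₁ = C_M(E)` has index `p`. -/
structure FD (p : ℕ) (K E M M₁ : Subgroup G) : Prop where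
  ctx : Ctx p G
  cop : (Nat.card K).Coprime p
  kmax : ∀ H : Subgroup G, (Nat.card H).Coprime p → K ≤ H → H = K
  K_le : K ≤ M₁
  ne_top : M ≠ ⊤
  E_comm : ∀ a ∈ E, ∀ b ∈ E, a * b = b * a
  E_sq : ∀ a ∈ E, a * a = 1
  card_E : Nat.card E = p + 1
  E_le : E ≤ M
  norm_E : M ≤ Subgroup.normalizer (E : Set G)
  inv_mem : ∀ t : G, orderOf t = 2 → t ∈ M → t ∈ E
  conj : ∀ t g : G, orderOf t = 2 → t ∈ M → g * t * g⁻¹ ∈ M → g ∈ M
  isConj : ∀ t v : G, orderOf t = 2 → t ∈ E → orderOf v = 2 → IsConj t v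
  eq₁ : M₁ = M ⊓ Subgroup.centralizer (E : Set G)
  norm₁ : M ≤ Subgroup.normalizer (M₁ : Set G)
  index₁ : M₁.relIndex M = p
  four : ∀ Y : Subgroup G, Y ≠ ⊤ → E ≤ Y → Y ≤ M
  centralizer_inv : ∀ t : G, t ∈ E → t ≠ 1 → Subgroup.centralizer ({t} : Set G) = M₁

theorem exists_FD (c : Ctx p G) : ∃ K E M M₁ : Subgroup G, FD p K E M M₁ := by
  obtain ⟨S, K, R, M, m⟩ := exists_MD c
  set E := Om K with hE
  have hn : M ≤ Subgroup.normalizer (E : Set G) := by
    refine m.eq.le.trans (sup_le ?_ ?_)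
    · exact m.R_centralizes.trans (Subgroup.centralizer_le_normalizer _)
    · rw [Subgroup.le_normalizer_iff]
      exact fun n hn x hx => m.conj_om_mem hn hx
  have hEM : E ≤ M := m.om_le
  set M₁ := M ⊓ Subgroup.centralizer (E : Set G) with hM₁
  have hn₁ : M ≤ Subgroup.normalizer (M₁ : Set G) :=
    (le_inf Subgroup.le_normalizer (Cfsg.Comp.le_normalizer_centralizer hn)).trans
      Subgroup.inf_normalizer_le_normalizer_inf
  obtain ⟨a, ha, haE⟩ := m.exists_involution_mem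
  have ha1 : a ≠ 1 := fun h => by simp [h] at ha
  have hcard : Nat.card E = p + 1 := m.kernel_index.2
  obtain ⟨b, hbE, hb1, hba⟩ : ∃ b ∈ E, b ≠ 1 ∧ b ≠ a := by
    by_contra hcon
    push Not at hcon
    have : Nat.card E ≤ 2 := by
      calc Nat.card E ≤ Nat.card ({1, a} : Set G) :=
            Nat.card_mono (Set.toFinite _) fun x hx => by
              by_cases h : x = 1
              · simp [h]
              · simp [hcon x hx h]
        _ ≤ 2 := by
            rw [Nat.card_coe_set_eq]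
            exact (Set.ncard_insert_le _ _).trans (by simp)
    have := hp.out.two_le
    omega
  have hord : ∀ x ∈ E, x ≠ 1 → orderOf x = 2 := fun x hx h1 =>
    orderOf_eq_prime (by rw [pow_two]; exact (m.kd.mem_om.mp hx).2) h1
  have hidx : M₁.relIndex M = p := by
    obtain ⟨N₁, -, hle, hnorm, hidx, heq⟩ := m.exists_kernel
    have h1 : N₁ ≤ M₁ := by
      refine le_inf hle ?_
      rw [heq]
      exact sup_le m.R_centralizes inf_le_right
    have h2 : M₁.relIndex M ∣ p := hidx ▸ Subgroup.relIndex_dvd_of_le_left M h1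
    rcases hp.out.eq_one_or_self_of_dvd _ h2 with h | h
    · exfalso
      obtain ⟨n, hn', hnab⟩ := m.transitive haE ha1 hbE hb1
      have h3 : n ∈ M₁ := Subgroup.relIndex_eq_one.mp h (m.NK_le hn')
      refine hba ?_
      rw [← hnab, ← h3.2 a haE, mul_inv_cancel_right]
    · exact h
  refine ⟨K, E, M, M₁, c, m.kd.cop, m.kd.max, le_inf m.K_le ?_, m.ne_top,
    fun x hx y hy => m.kd.om_commutative hx hy, fun x hx => (m.kd.mem_om.mp hx).2, hcard, hEM, hn, ?_,
    fun t g h1 h2 h3 => m.mem_of_conj h1 h2 h3, ?_, rfl, hn₁, hidx, ?_, ?_⟩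
  · exact fun k hk e he => m.kd.comm (m.kd.om_le_K he) hk
  · intro t ht htM
    obtain ⟨g, hg, hgt⟩ := m.exists_conj_om ht htM
    have h1 := (Subgroup.mem_normalizer_iff.mp (hn (inv_mem hg)) _).mp hgt
    simpa [mul_assoc] using h1
  · intro t v ht htE hv
    by_cases hvM : v ∈ M
    · obtain ⟨g, -, hg⟩ := m.conj_in_M ht (hEM htE) hv hvM
      exact isConj_iff.mpr ⟨g, hg⟩
    · exact m.isConj_outside ht (hEM htE) hv hvM
  · intro Y hY hEY
    exact m.le_of_four hY ha (hord b hbE hb1) (hEY haE) (hEY hbE) (hEM haE) (hEM hbE)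
      (m.kd.om_commutative haE hbE) hba.symm
  · intro t ht ht1
    have hle : Subgroup.centralizer ({t} : Set G) ≤ M :=
      m.centralizer_le_of_mem_K (m.kd.om_le_K ht) ht1
    have hge : M₁ ≤ Subgroup.centralizer ({t} : Set G) := fun x hx =>
      Subgroup.mem_centralizer_singleton_iff.mpr (hx.2 t ht).symm
    refine le_antisymm ?_ hge
    have h2 : (Subgroup.centralizer ({t} : Set G)).relIndex M ∣ p :=
      hidx ▸ Subgroup.relIndex_dvd_of_le_left M hge
    have h3 := Subgroup.relIndex_mul_relIndex M₁ (Subgroup.centralizer ({t} : Set G)) M hge hle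
    rcases hp.out.eq_one_or_self_of_dvd _ h2 with h | h
    · exfalso
      obtain ⟨t', ht'E, ht'1, ht't⟩ : ∃ t' ∈ E, t' ≠ 1 ∧ t' ≠ t := by
        by_cases hta : t = a
        · exact ⟨b, hbE, hb1, hta ▸ hba⟩
        · exact ⟨a, haE, ha1, Ne.symm hta⟩
      obtain ⟨n, hn', hnt⟩ := m.transitive ht ht1 ht'E ht'1
      have h4 := Subgroup.mem_centralizer_singleton_iff.mp
        (Subgroup.relIndex_eq_one.mp h (m.NK_le hn'))
      exact ht't (by rw [← hnt, h4, mul_inv_cancel_right])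
    · rw [h, hidx] at h3
      exact Subgroup.relIndex_eq_one.mp (Nat.eq_of_mul_eq_mul_right hp.out.pos
        (h3.trans (one_mul p).symm))

namespace FD

variable {K E M M₁ : Subgroup G} (d : FD p K E M M₁)
include d

theorem M₁_le : M₁ ≤ M := d.eq₁ ▸ inf_le_left

theorem comm_mem₁ {a b : G} (ha : a ∈ M) (hb : b ∈ M) : a * b * a⁻¹ * b⁻¹ ∈ M₁ := by
  haveI : (M₁.subgroupOf M).Normal :=
    (Subgroup.normal_subgroupOf_iff_le_normalizer d.M₁_le).mpr d.norm₁
  have hcomm : commutator M ≤ M₁.subgroupOf M := by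
    refine Subgroup.Normal.quotient_commutative_iff_commutator_le.mp ?_
    haveI := isCyclic_of_prime_card (α := M ⧸ M₁.subgroupOf M) (p := p) (by
      rw [← Subgroup.index_eq_card]; exact d.index₁)
    infer_instance
  exact hcomm (Subgroup.commutator_mem_commutator (g₁ := (⟨a, ha⟩ : M)) (g₂ := ⟨b, hb⟩)
    (Subgroup.mem_top _) (Subgroup.mem_top _))

theorem pow_mem₁ {a : G} (ha : a ∈ M) : a ^ p ∈ M₁ := by
  haveI : (M₁.subgroupOf M).Normal :=
    (Subgroup.normal_subgroupOf_iff_le_normalizer d.M₁_le).mpr d.norm₁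
  have h : (⟨a, ha⟩ : M) ^ (M₁.subgroupOf M).index ∈ M₁.subgroupOf M :=
    Subgroup.pow_index_mem (M₁.subgroupOf M) _
  rw [show (M₁.subgroupOf M).index = p from d.index₁, Subgroup.mem_subgroupOf] at h
  exact h

theorem exists_involution : ∃ t ∈ E, t ≠ 1 ∧ orderOf t = 2 := by
  obtain ⟨⟨t, ht⟩, ht1⟩ := Subgroup.ne_bot_iff_exists_ne_one.mp (show E ≠ ⊥ by
    intro h
    have h2 := d.card_E
    rw [h, Subgroup.card_bot] at h2
    have := hp.out.pos
    omega)
  have h1 : t ≠ 1 := fun h => ht1 (Subtype.ext h)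
  exact ⟨t, ht, h1, orderOf_eq_prime (by rw [pow_two]; exact d.E_sq t ht) h1⟩

theorem centralizer_le {y : G} (hy : y ∈ M₁) (hy1 : y ≠ 1) :
    Subgroup.centralizer ({y} : Set G) ≤ M :=
  d.four _ (d.ctx.centralizer_ne_top hy1) fun e he =>
    Subgroup.mem_centralizer_singleton_iff.mpr ((d.eq₁.le hy).2 e he)

/-- An element centralising conjugates of `E` in two different points is trivial. -/
theorem eq_one_of_two {y g : G} (hy : y ∈ M₁) (hy' : g⁻¹ * y * g ∈ M₁) (hg : g ∉ M) : y = 1 := by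
  by_contra hy1
  obtain ⟨t, ht, ht1, hto⟩ := d.exists_involution
  refine hg (d.conj t g hto (d.E_le ht) (d.centralizer_le hy hy1 ?_))
  have h1 := (d.eq₁.le hy').2 t ht
  refine Subgroup.mem_centralizer_singleton_iff.mpr ?_
  calc g * t * g⁻¹ * y = g * (t * (g⁻¹ * y * g)) * g⁻¹ := by group
    _ = g * ((g⁻¹ * y * g) * t) * g⁻¹ := by rw [h1]
    _ = y * (g * t * g⁻¹) := by group

/-- `M ∩ gMg⁻¹`. -/
def two (_ : FD p K E M M₁) (g : G) : Subgroup G := M ⊓ M.map (MulAut.conj g).toMonoidHom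

theorem mem_two {g x : G} : x ∈ d.two g ↔ x ∈ M ∧ g⁻¹ * x * g ∈ M := by
  rw [two, Subgroup.mem_inf, Subgroup.mem_map_equiv, MulAut.conj_symm_apply]

theorem two_pow {g x : G} (hg : g ∉ M) (hx : x ∈ d.two g) : x ^ p = 1 := by
  obtain ⟨h1, h2⟩ := d.mem_two.mp hx
  refine d.eq_one_of_two (d.pow_mem₁ h1) ?_ hg
  have := d.pow_mem₁ h2
  rwa [show (g⁻¹ * x * g) ^ p = g⁻¹ * x ^ p * g by
    simpa using conj_pow (i := p) (a := g⁻¹) (b := x)] at this

theorem two_comm {g x y : G} (hg : g ∉ M) (hx : x ∈ d.two g) (hy : y ∈ d.two g) :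
    x * y = y * x := by
  obtain ⟨h1, h2⟩ := d.mem_two.mp hx
  obtain ⟨k1, k2⟩ := d.mem_two.mp hy
  have h3 : x * y * x⁻¹ * y⁻¹ = 1 := by
    refine d.eq_one_of_two (d.comm_mem₁ h1 k1) ?_ hg
    have := d.comm_mem₁ h2 k2
    convert this using 1
    group
  exact mul_inv_eq_iff_eq_mul.mp (mul_inv_eq_one.mp h3)

theorem two_isPGroup {g : G} (hg : g ∉ M) : IsPGroup p (d.two g) := fun x =>
  ⟨1, Subtype.ext (by rw [pow_one, Subgroup.coe_pow, d.two_pow hg x.2, Subgroup.coe_one])⟩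

theorem quot_card : Nat.card (M ⧸ M₁.subgroupOf M) = p := by
  rw [← Subgroup.index_eq_card]; exact d.index₁

theorem two_card {g : G} (hg : g ∉ M) : Nat.card (d.two g) ≤ p ^ 2 := by
  have hc : Nat.card ((M ⧸ M₁.subgroupOf M) × (M ⧸ M₁.subgroupOf M)) = p ^ 2 := by
    rw [Nat.card_prod, d.quot_card, pow_two]
  refine hc ▸ Nat.card_le_card_of_injective
    (fun x : d.two g => (QuotientGroup.mk (⟨x.1, (d.mem_two.mp x.2).1⟩ : M),
      QuotientGroup.mk (⟨g⁻¹ * x.1 * g, (d.mem_two.mp x.2).2⟩ : M))) ?_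
  intro x y hxy
  simp only [Prod.mk.injEq, QuotientGroup.eq, Subgroup.mem_subgroupOf] at hxy
  obtain ⟨h1, h2⟩ := hxy
  refine Subtype.ext (inv_mul_eq_one.mp (d.eq_one_of_two h1 ?_ hg))
  convert h2 using 1
  simp [mul_assoc]

theorem inv_of_mem_E {u x : G} (hu : u ∈ E) (hx : x ∈ M) (hxu : u * x * u⁻¹ = x⁻¹) :
    x ^ 2 ∈ E := by
  have h1 : x * u * x⁻¹ * u⁻¹ ∈ E :=
    E.mul_mem ((Subgroup.mem_normalizer_iff.mp (d.norm_E hx) u).mp hu) (E.inv_mem hu)
  have h2 : u * x⁻¹ * u⁻¹ = x := by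
    have := congrArg (fun z => z⁻¹) hxu
    simpa [mul_assoc] using this
  rwa [show x * u * x⁻¹ * u⁻¹ = x * (u * x⁻¹ * u⁻¹) by group, h2, ← pow_two] at h1

/-- An inverted element of order `p` and its inverting involution fix no common point. -/
theorem not_both {x u h : G} (hx : orderOf x = p) (hu : orderOf u = 2) (hxu : u * x * u⁻¹ = x⁻¹)
    (hxh : h⁻¹ * x * h ∈ M) : h⁻¹ * u * h ∉ M := by
  intro huh
  have hu' : orderOf (h⁻¹ * u * h) = 2 := by
    have := (MulAut.conj h⁻¹).orderOf_eq u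
    rw [MulAut.conj_apply, inv_inv] at this
    exact this.trans hu
  have h1 : (h⁻¹ * u * h) * (h⁻¹ * x * h) * (h⁻¹ * u * h)⁻¹ = (h⁻¹ * x * h)⁻¹ := by
    calc _ = h⁻¹ * (u * x * u⁻¹) * h := by group
      _ = _ := by rw [hxu]; group
  have h2 := d.inv_of_mem_E (d.inv_mem _ hu' huh) hxh h1
  have h3 := d.E_sq _ h2
  have h4 : orderOf (h⁻¹ * x * h) = p := by
    have := (MulAut.conj h⁻¹).orderOf_eq x
    rw [MulAut.conj_apply, inv_inv] at this
    exact this.trans hx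
  rw [← pow_add] at h3
  have h5 : p ∣ 4 := h4 ▸ orderOf_dvd_of_pow_eq_one h3
  have := d.ctx.five
  have := Nat.le_of_dvd (by norm_num) h5
  omega

/-- The centraliser of an inverted element of order `p` has odd order. -/
theorem odd_centralizer {x u : G} (hx : orderOf x = p) (hu : orderOf u = 2)
    (hxu : u * x * u⁻¹ = x⁻¹) : ¬ 2 ∣ Nat.card (Subgroup.centralizer ({x} : Set G)) := by
  intro h
  obtain ⟨⟨t, htC⟩, ht⟩ := exists_prime_orderOf_dvd_card' 2 h
  rw [Subgroup.orderOf_mk] at ht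
  obtain ⟨e, heE, he1, heo⟩ := d.exists_involution
  obtain ⟨h, hh⟩ := isConj_iff.mp (d.isConj e t heo heE ht)
  set x' := h⁻¹ * x * h with hx'
  have htx : t * x = x * t := Subgroup.mem_centralizer_singleton_iff.mp htC
  have hmem : x' ∈ M₁ := by
    rw [← d.centralizer_inv e heE he1]
    refine Subgroup.mem_centralizer_singleton_iff.mpr ?_
    rw [hx', show e = h⁻¹ * t * h by rw [← hh]; group]
    calc h⁻¹ * x * h * (h⁻¹ * t * h) = h⁻¹ * (x * t) * h := by group
      _ = h⁻¹ * (t * x) * h := by rw [htx]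
      _ = _ := by group
  have hx'1 : x' ≠ 1 := fun h0 => by
    have h1 : orderOf x = 1 := orderOf_eq_one_iff.mpr (by
      rw [show x = h * x' * h⁻¹ by rw [hx']; group, h0]; group)
    have := hp.out.two_le
    omega
  set u' := h⁻¹ * u * h with hu'
  have hinv : u' * x' * u'⁻¹ = x'⁻¹ := by
    calc u' * x' * u'⁻¹ = h⁻¹ * (u * x * u⁻¹) * h := by rw [hu', hx']; group
      _ = _ := by rw [hxu, hx']; group
  have hnorm : u' * e * u'⁻¹ ∈ Subgroup.centralizer ({x'} : Set G) := by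
    have h1 : e * x'⁻¹ = x'⁻¹ * e := ((d.eq₁.le (M₁.inv_mem hmem)).2 e heE)
    have h2 : x' = u' * x'⁻¹ * u'⁻¹ := by
      have := congrArg (fun z => z⁻¹) hinv
      simp only [inv_inv] at this
      calc x' = (u' * x' * u'⁻¹)⁻¹ := this.symm
        _ = _ := by group
    refine Subgroup.mem_centralizer_singleton_iff.mpr ?_
    calc u' * e * u'⁻¹ * x' = u' * e * u'⁻¹ * (u' * x'⁻¹ * u'⁻¹) := by rw [← h2]
      _ = u' * (e * x'⁻¹) * u'⁻¹ := by group
      _ = u' * (x'⁻¹ * e) * u'⁻¹ := by rw [h1]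
      _ = u' * x'⁻¹ * u'⁻¹ * (u' * e * u'⁻¹) := by group
      _ = x' * (u' * e * u'⁻¹) := by rw [← h2]
  exact d.not_both hx hu hxu (d.M₁_le hmem)
    (d.conj e u' heo (d.E_le heE) (d.centralizer_le hmem hx'1 hnorm))

/-- The involutions in the point `q`. -/
def invs (_ : FD p K E M M₁) (q : G ⧸ M) : Set G := {u | orderOf u = 2 ∧ (u : G ⧸ M) = q}

theorem card_invs_base : Nat.card (d.invs ((1 : G) : G ⧸ M)) = p := by
  have he : d.invs ((1 : G) : G ⧸ M) = (E : Set G) \ {1} := by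
    ext u
    simp only [invs, Set.mem_setOf_eq, Set.mem_diff, SetLike.mem_coe, Set.mem_singleton_iff,
      QuotientGroup.eq, mul_one, inv_mem_iff]
    constructor
    · rintro ⟨h1, h2⟩
      exact ⟨d.inv_mem u h1 h2, fun h => by simp [h] at h1⟩
    · rintro ⟨h1, h2⟩
      exact ⟨orderOf_eq_prime (by rw [pow_two]; exact d.E_sq u h1) h2, d.E_le h1⟩
  rw [he, Nat.card_coe_set_eq, Set.ncard_diff_singleton_of_mem E.one_mem, ← Nat.card_coe_set_eq]
  show Nat.card E - 1 = p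
  rw [d.card_E]; omega

theorem card_invs_le {q : G ⧸ M} (hq : q ≠ ((1 : G) : G ⧸ M)) : Nat.card (d.invs q) ≤ p := by
  rcases isEmpty_or_nonempty (d.invs q) with h | ⟨⟨u₀, hu₀, hu₀q⟩⟩
  · simp
  have hu₀M : u₀ ∉ M := fun h => hq (by
    rw [← hu₀q, QuotientGroup.eq, mul_one]; exact M.inv_mem h)
  have huu : u₀⁻¹ = u₀ := inv_eq_of_mul_eq_one_right (by rw [← pow_two, ← hu₀, pow_orderOf_eq_one])
  have key : ∀ u : d.invs q, u₀⁻¹ * u.1 ∈ M ∧ u₀⁻¹ * (u₀⁻¹ * u.1) * u₀ ∈ M ∧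
      u₀ * (u₀⁻¹ * u.1) * u₀⁻¹ = (u₀⁻¹ * u.1)⁻¹ := by
    rintro ⟨u, hu, huq⟩
    have hu' : u⁻¹ = u := inv_eq_of_mul_eq_one_right (by rw [← pow_two, ← hu, pow_orderOf_eq_one])
    have h1 : u₀⁻¹ * u ∈ M := QuotientGroup.eq.mp (hu₀q.trans huq.symm)
    have h2 : u₀ * (u₀⁻¹ * u) * u₀⁻¹ = (u₀⁻¹ * u)⁻¹ := by
      rw [mul_inv_rev, inv_inv, hu', huu, ← mul_assoc u₀ u₀ u]
      rw [show u₀ * u₀ = 1 by rw [← pow_two, ← hu₀, pow_orderOf_eq_one], one_mul]
    refine ⟨h1, ?_, h2⟩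
    have h3 := M.inv_mem h1
    rw [← h2] at h3
    simpa [huu] using h3
  refine le_of_le_of_eq ?_ d.quot_card
  refine Nat.card_le_card_of_injective
    (fun u : d.invs q => QuotientGroup.mk (⟨u₀⁻¹ * u.1, (key u).1⟩ : M)) fun u v huv => ?_
  simp only [QuotientGroup.eq, Subgroup.mem_subgroupOf] at huv
  obtain ⟨a1, a2, a3⟩ := key u
  obtain ⟨b1, b2, b3⟩ := key v
  set a := u₀⁻¹ * u.1 with ha
  set b := u₀⁻¹ * v.1 with hb
  have hab : a⁻¹ * b ∈ M₁ := huv
  have hcom : a * b = b * a := d.two_comm hu₀M (d.mem_two.mpr ⟨a1, a2⟩) (d.mem_two.mpr ⟨b1, b2⟩)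
  have h5 : u₀ * (a⁻¹ * b) * u₀⁻¹ = (a⁻¹ * b)⁻¹ := by
    calc u₀ * (a⁻¹ * b) * u₀⁻¹ = (u₀ * a * u₀⁻¹)⁻¹ * (u₀ * b * u₀⁻¹) := by group
      _ = a * b⁻¹ := by rw [a3, b3, inv_inv]
      _ = b⁻¹ * a := by
        calc a * b⁻¹ = b⁻¹ * (b * a) * b⁻¹ := by group
          _ = b⁻¹ * (a * b) * b⁻¹ := by rw [hcom]
          _ = b⁻¹ * a := by group
      _ = (a⁻¹ * b)⁻¹ := by group
  have h6 : a⁻¹ * b = 1 := d.eq_one_of_two hab (by
    rw [huu]
    have := M₁.inv_mem hab
    rw [← h5] at this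
    simpa [huu] using this) hu₀M
  exact Subtype.ext (mul_left_cancel (inv_mul_eq_one.mp h6))

/-- Every coset other than `M` contains exactly `p` involutions. -/
theorem card_invs (q : G ⧸ M) : Nat.card (d.invs q) = p := by
  classical
  have hle : ∀ r : G ⧸ M, Nat.card (d.invs r) ≤ p := fun r => by
    by_cases h : r = ((1 : G) : G ⧸ M)
    · rw [h, d.card_invs_base]
    · exact d.card_invs_le h
  haveI := Fintype.ofFinite (G ⧸ M)
  have hsum : ∑ r : G ⧸ M, Nat.card (d.invs r) = ∑ _r : G ⧸ M, p := by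
    rw [Finset.sum_const, Finset.card_univ, smul_eq_mul, ← Nat.card_sigma, ← Nat.card_eq_fintype_card,
      ← Subgroup.index_eq_card]
    obtain ⟨e, heE, he1, heo⟩ := d.exists_involution
    have hce : Nat.card (Σ r : G ⧸ M, d.invs r) = Nat.card (conjugatesOf e) := by
      refine Nat.card_congr
        { toFun := fun x => ⟨x.2.1, d.isConj e _ heo heE x.2.2.1⟩
          invFun := fun u => ⟨(u.1 : G ⧸ M), u.1, by
            obtain ⟨g, hg⟩ := isConj_iff.mp (show IsConj e u.1 from u.2)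
            exact ⟨by rw [← hg]; exact ((MulAut.conj g).orderOf_eq e).trans heo, rfl⟩⟩
          left_inv := fun x => by
            obtain ⟨r, u, hu, rfl⟩ := x
            rfl
          right_inv := fun u => rfl }
    have hconj : Nat.card (conjugatesOf e) = (Subgroup.centralizer ({e} : Set G)).index :=
      H31.card_isConj e
    rw [hce, hconj, d.centralizer_inv e heE he1, ← Subgroup.relIndex_mul_index d.M₁_le, d.index₁,
      mul_comm]
  exact (Finset.sum_eq_sum_iff_of_le (fun r _ => hle r)).mp hsum q (Finset.mem_univ q)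

end FD

end H72.PrimeAbelian
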