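import Cfsg.Agent.H72.PrimeAbelian.Overgroup

/-!
The maximal overgroup `M = R N(K)`: it is strongly embedded and has a normal subgroup of index `p`.
-/

set_option autoImplicit false

open scoped Pointwise commutatorElement

namespace H72.PrimeAbelian

universe u

variable {p : ℕ} [hp : Fact p.Prime] {G : Type u} [Group G] [Finite G]

/-- `M = R N(K)` for the largest `K`-invariant `p`-subgroup `R`. -/
structure MD (p : ℕ) (S : Sylow 2 G) (K R M : Subgroup G) : Prop where
  kd : KD p S K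
  isP : IsPGroup p R
  norm : K ≤ Subgroup.normalizer (R : Set G)
  largest : ∀ A : Subgroup G, IsPGroup p A → K ≤ Subgroup.normalizer (A : Set G) → A ≤ R
  eq : M = R ⊔ Subgroup.normalizer (K : Set G)

theorem exists_MD (c : Ctx p G) :
    ∃ (S : Sylow 2 G) (K R M : Subgroup G), MD p S K R M := by
  obtain ⟨S, K, d⟩ := exists_KD c
  obtain ⟨R, h1, h2, h3⟩ := d.exists_largest
  exact ⟨S, K, R, _, d, h1, h2, h3, rfl⟩

namespace MD

variable {S : Sylow 2 G} {K R M : Subgroup G} (m : MD p S K R M)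
include m

theorem normalizer_le_normalizer :
    Subgroup.normalizer (K : Set G) ≤ Subgroup.normalizer (R : Set G) := by
  rw [Subgroup.le_normalizer_iff]
  intro n hn x hx
  have hK : K.map (MulAut.conj n).toMonoidHom = K := Cfsg.Comp.map_conj_eq_of_mem_normalizer hn
  have h1 : R.map (MulAut.conj n).toMonoidHom ≤ R := by
    refine m.largest _ (m.isP.map _) ?_
    calc K = K.map (MulAut.conj n).toMonoidHom := hK.symm
      _ ≤ (Subgroup.normalizer (R : Set G)).map (MulAut.conj n).toMonoidHom :=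
        Subgroup.map_mono m.norm
      _ ≤ _ := Subgroup.le_normalizer_map _
  exact h1 ⟨x, hx, rfl⟩

theorem R_le : R ≤ M := m.eq ▸ le_sup_left

theorem NK_le : Subgroup.normalizer (K : Set G) ≤ M := m.eq ▸ le_sup_right

theorem K_le : K ≤ M := Subgroup.le_normalizer.trans m.NK_le

theorem sylow_le : (S : Subgroup G) ≤ M := m.kd.le.trans m.K_le

theorem om_le : Om K ≤ M := m.kd.om_le_K.trans m.K_le

theorem le_normalizer_R : M ≤ Subgroup.normalizer (R : Set G) := by
  rw [m.eq]; exact sup_le Subgroup.le_normalizer m.normalizer_le_normalizer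

theorem exists_mul {x : G} (hx : x ∈ M) :
    ∃ r ∈ R, ∃ n ∈ Subgroup.normalizer (K : Set G), r * n = x := by
  rw [m.eq, sup_comm, ← SetLike.mem_coe,
    Subgroup.coe_mul_of_left_le_normalizer_right _ _ m.normalizer_le_normalizer] at hx
  obtain ⟨n, hn, r, hr, h⟩ := Set.mem_mul.mp hx
  exact ⟨n * r * n⁻¹, (Subgroup.mem_normalizer_iff.mp (m.normalizer_le_normalizer hn) r).mp hr,
    n, hn, by rw [← h]; group⟩

theorem K_ne_bot : K ≠ ⊥ := by
  intro h
  have h1 : Nat.card (Om K) ≤ Nat.card K := Subgroup.card_le_of_le m.kd.om_le_K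
  have h2 := m.kd.eight_le
  have h3 : Nat.card K = 1 := by rw [h, Subgroup.card_bot]
  omega

theorem ne_top : M ≠ ⊤ := by
  intro h
  by_cases hR : R = ⊥
  · rw [m.eq, hR, bot_sup_eq] at h
    exact m.kd.ctx.normalizer_ne_top m.K_ne_bot m.kd.ne_top h
  · exact m.kd.ctx.normalizer_ne_top hR (m.kd.ctx.pgroup_ne_top m.isP)
      (top_le_iff.mp (h ▸ m.le_normalizer_R))

/-- `M` is the only maximal subgroup containing `K`. -/
theorem overgroup {Y : Subgroup G} (hY : Y ≠ ⊤) (hKY : K ≤ Y) : Y ≤ M := by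
  refine (m.kd.core hY hKY).2.trans (sup_le ?_ (inf_le_right.trans m.NK_le))
  refine le_trans (m.largest _ ((H1.isPGroup_pCore p Y).map _) ?_) m.R_le
  haveI := H1.pCore_characteristic p Y
  exact hKY.trans (Subgroup.le_normalizer.trans (Cfsg.Comp.le_normalizer_map_subtype (Cfsg.pCore p Y)))

theorem normalizer_sylow_le : Subgroup.normalizer ((S : Subgroup G) : Set G) ≤ M := by
  haveI := m.kd.sylow_comm
  refine m.overgroup (m.kd.ctx.normalizer_ne_top ?_ ?_) fun x hx => ?_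
  · exact S.ne_bot_of_dvd_card m.kd.two_dvd
  · exact fun h => m.kd.ne_top (top_le_iff.mp (h ▸ m.kd.le))
  · refine Subgroup.mem_normalizer_iff.mpr fun y => ?_
    constructor
    · intro hy; rwa [m.kd.comm hx (m.kd.le hy), mul_inv_cancel_right]
    · intro hy
      rw [show y = x⁻¹ * (x * y * x⁻¹) * x by group,
        m.kd.comm (inv_mem hx) (m.kd.le hy), inv_mul_cancel_right]
      exact hy

theorem centralizer_le_of_mem_K {x : G} (hx : x ∈ K) (hx1 : x ≠ 1) :
    Subgroup.centralizer ({x} : Set G) ≤ M :=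
  m.overgroup (m.kd.ctx.centralizer_ne_top hx1) (m.kd.K_le_centralizer hx)

/-- An involution of `M` is conjugate in `M` into `Om K`. -/
theorem exists_conj_om {t : G} (ht : orderOf t = 2) (htM : t ∈ M) :
    ∃ g ∈ M, g * t * g⁻¹ ∈ Om K := by
  have h1 : IsPGroup 2 (Subgroup.zpowers t) :=
    IsPGroup.of_card (n := 1) (by rw [Nat.card_zpowers, ht, pow_one])
  obtain ⟨P, hP⟩ := (h1.of_equiv
    (Subgroup.subgroupOfEquivOfLe ((Subgroup.zpowers_le).mpr htM)).symm).exists_le_sylow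
  obtain ⟨g, hg⟩ := MulAction.exists_smul_eq M P (S.subtype m.sylow_le)
  refine ⟨g, g.2, m.kd.mem_om.mpr ⟨m.kd.le ?_, ?_⟩⟩
  · have h2 : g * ⟨t, htM⟩ * g⁻¹ ∈ ((g • P : Sylow 2 M) : Subgroup M) := by
      rw [Sylow.coe_subgroup_smul]
      exact ⟨⟨t, htM⟩, hP (Subgroup.mem_subgroupOf.mpr (Subgroup.mem_zpowers t)), rfl⟩
    rw [hg] at h2
    exact h2
  · rw [show (g : G) * t * (g : G)⁻¹ * ((g : G) * t * (g : G)⁻¹) = (g : G) * (t * t) * (g : G)⁻¹ by
      group, ← pow_two, ← ht, pow_orderOf_eq_one]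
    group

theorem centralizer_involution_le {t : G} (ht : orderOf t = 2) (htM : t ∈ M) :
    Subgroup.centralizer ({t} : Set G) ≤ M := by
  obtain ⟨g, hg, hgt⟩ := m.exists_conj_om ht htM
  intro x hx
  have hne : g * t * g⁻¹ ≠ 1 := fun h => by simp [(conj_eq_one_iff).mp h] at ht
  have h1 : g * x * g⁻¹ ∈ Subgroup.centralizer ({g * t * g⁻¹} : Set G) := by
    rw [Subgroup.mem_centralizer_singleton_iff] at hx ⊢
    calc g * x * g⁻¹ * (g * t * g⁻¹) = g * (x * t) * g⁻¹ := by group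
      _ = _ := by rw [hx]; group
  have h2 := m.centralizer_le_of_mem_K (m.kd.om_le_K hgt) hne h1
  rw [show x = g⁻¹ * (g * x * g⁻¹) * g by group]
  exact mul_mem (mul_mem (inv_mem hg) h2) hg

/-- `M` is strongly embedded. -/
theorem mem_of_conj {t g : G} (ht : orderOf t = 2) (htM : t ∈ M) (hgt : g * t * g⁻¹ ∈ M) :
    g ∈ M := by
  haveI := m.kd.sylow_comm
  have ht' : orderOf (g * t * g⁻¹) = 2 := ((MulAut.conj g).orderOf_eq t).trans ht
  obtain ⟨a, ha, has⟩ := m.exists_conj_om ht htM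
  obtain ⟨b, hb, hbs⟩ := m.exists_conj_om ht' hgt
  set s := a * t * a⁻¹ with hs
  set h := b * g * a⁻¹ with hh
  have hsh : h * s * h⁻¹ = b * (g * t * g⁻¹) * b⁻¹ := by rw [hh, hs]; group
  obtain ⟨n, hn, hns⟩ := H5.control_of_commutative S s (m.kd.om_le_sylow has) h
    (hsh ▸ m.kd.om_le_sylow hbs)
  have hne : s ≠ 1 := fun h0 => by simp [(conj_eq_one_iff).mp h0] at ht
  have hc : n⁻¹ * h ∈ Subgroup.centralizer ({s} : Set G) := by
    rw [Subgroup.mem_centralizer_singleton_iff]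
    calc n⁻¹ * h * s = n⁻¹ * (h * s * h⁻¹) * h := by group
      _ = n⁻¹ * (n * s * n⁻¹) * h := by rw [hns]
      _ = s * (n⁻¹ * h) := by group
  have hnh : h ∈ M := by
    rw [show h = n * (n⁻¹ * h) by group]
    exact mul_mem (m.normalizer_sylow_le hn) (m.centralizer_le_of_mem_K (m.kd.om_le_K has) hne hc)
  rw [show g = b⁻¹ * h * a by rw [hh]; group]
  exact mul_mem (mul_mem (inv_mem hb) hnh) ha

theorem exists_involution_mem : ∃ t : G, orderOf t = 2 ∧ t ∈ Om K := by
  obtain ⟨⟨t, ht⟩, ht1⟩ := Subgroup.ne_bot_iff_exists_ne_one.mp (show Om K ≠ ⊥ by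
    intro h
    have h2 := m.kd.eight_le
    rw [h, Subgroup.card_bot] at h2; omega)
  refine ⟨t, orderOf_eq_prime ?_ fun h => ht1 (Subtype.ext h), ht⟩
  rw [pow_two]; exact (m.kd.mem_om.mp ht).2

theorem exists_involution_not_mem : ∃ u : G, orderOf u = 2 ∧ u ∉ M := by
  obtain ⟨t, ht, htO⟩ := m.exists_involution_mem
  by_contra hcon
  push Not at hcon
  haveI := m.kd.ctx.simple
  rcases (Subgroup.normalClosure_normal (s := ({t} : Set G))).eq_bot_or_eq_top with h | h
  · have : t ∈ (⊥ : Subgroup G) := h ▸ Subgroup.subset_normalClosure rfl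
    rw [Subgroup.mem_bot.mp this, orderOf_one] at ht
    omega
  · refine m.ne_top (top_le_iff.mp (h ▸ (Subgroup.closure_le M).mpr ?_))
    intro x hx
    rw [Group.mem_conjugatesOfSet_iff] at hx
    obtain ⟨a, rfl, hax⟩ := hx
    obtain ⟨g, rfl⟩ := isConj_iff.mp hax
    exact hcon _ (((MulAut.conj g).orderOf_eq a).trans ht)

theorem not_commute {t u : G} (ht : orderOf t = 2) (htM : t ∈ M) (hu : u ∉ M) : t * u ≠ u * t :=
  fun h => hu (m.centralizer_involution_le ht htM (Subgroup.mem_centralizer_singleton_iff.mpr h.symm))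

/-- An involution of `M` is conjugate to every involution outside `M`. -/
theorem isConj_outside {t u : G} (ht : orderOf t = 2) (htM : t ∈ M) (hu : orderOf u = 2)
    (huM : u ∉ M) : IsConj t u := by
  have htt : t * t = 1 := by rw [← pow_two, ← ht, pow_orderOf_eq_one]
  have huu : u * u = 1 := by rw [← pow_two, ← hu, pow_orderOf_eq_one]
  have ht' : t⁻¹ = t := inv_eq_of_mul_eq_one_right htt
  have hu' : u⁻¹ = u := inv_eq_of_mul_eq_one_right huu
  set a := t * u with ha
  have hinv : u * a * u⁻¹ = a⁻¹ := by rw [ha, mul_inv_rev, hu', ht']; simp [mul_assoc, huu]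
  have htinv : t * a * t⁻¹ = a⁻¹ := by
    rw [ha, mul_inv_rev, hu', ht', ← mul_assoc, htt, one_mul]
  rcases Nat.even_or_odd (orderOf a) with ⟨k, hk⟩ | ⟨k, hk⟩
  · exfalso
    have hk0 : 0 < k := by have := orderOf_pos a; omega
    set z := a ^ k with hz
    have hz1 : z ≠ 1 := pow_ne_one_of_lt_orderOf hk0.ne' (by omega)
    have hzz : z * z = 1 := by rw [hz, ← pow_add, ← hk, pow_orderOf_eq_one]
    have hzi : z⁻¹ = z := inv_eq_of_mul_eq_one_right hzz
    have htz : z * t = t * z := by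
      have : t * z * t⁻¹ = z := by rw [hz, ← conj_pow, htinv, inv_pow, ← hz, hzi]
      exact (mul_inv_eq_iff_eq_mul.mp this).symm
    have huz : u * z = z * u := by
      have : u * z * u⁻¹ = z := by rw [hz, ← conj_pow, hinv, inv_pow, ← hz, hzi]
      exact mul_inv_eq_iff_eq_mul.mp this
    have hzM := m.centralizer_involution_le ht htM (Subgroup.mem_centralizer_singleton_iff.mpr htz)
    exact m.not_commute (orderOf_eq_prime (by rw [pow_two, hzz]) hz1) hzM huM huz.symm
  · refine isConj_iff.mpr ⟨a ^ k, ?_⟩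
    have h1 : t * (a ^ k)⁻¹ = a ^ k * t := by
      have : t * a ^ k * t⁻¹ = (a ^ k)⁻¹ := by rw [← conj_pow, htinv, inv_pow]
      rw [← this, ht']
      calc t * (t * a ^ k * t) = (t * t) * (a ^ k * t) := by group
        _ = a ^ k * t := by rw [htt, one_mul]
    rw [mul_assoc, h1, ← mul_assoc, ← pow_add]
    have h2 : a ^ (k + k) = a⁻¹ := by
      refine eq_inv_of_mul_eq_one_left ?_
      rw [← pow_succ, show k + k + 1 = orderOf a by omega, pow_orderOf_eq_one]
    rw [h2, ha, mul_inv_rev, hu', ht', mul_assoc, htt, mul_one]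

theorem conj_in_M {t t' : G} (ht : orderOf t = 2) (htM : t ∈ M) (ht' : orderOf t' = 2)
    (htM' : t' ∈ M) : ∃ g ∈ M, g * t * g⁻¹ = t' := by
  obtain ⟨u, hu, huM⟩ := m.exists_involution_not_mem
  obtain ⟨g, hg⟩ := isConj_iff.mp
    ((m.isConj_outside ht htM hu huM).trans (m.isConj_outside ht' htM' hu huM).symm)
  exact ⟨g, m.mem_of_conj ht htM (hg ▸ htM'), hg⟩

theorem R_inf_om : R ⊓ Om K = ⊥ := by
  refine Cfsg.Comp.inf_eq_bot_of_isPGroup (p := p) m.isP fun h => ?_
  exact hp.out.coprime_iff_not_dvd.mp m.kd.cop.symm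
    (h.trans (Subgroup.card_dvd_of_le m.kd.om_le_K))

theorem conj_om_mem {n x : G} (hn : n ∈ Subgroup.normalizer (K : Set G)) (hx : x ∈ Om K) :
    n * x * n⁻¹ ∈ Om K := by
  obtain ⟨hxK, hx2⟩ := m.kd.mem_om.mp hx
  refine m.kd.mem_om.mpr ⟨(Subgroup.mem_normalizer_iff.mp hn x).mp hxK, ?_⟩
  rw [show n * x * n⁻¹ * (n * x * n⁻¹) = n * (x * x) * n⁻¹ by group, hx2]
  group

/-- `N(K)` is transitive on the nontrivial elements of `Om K`. -/
theorem transitive {t t' : G} (ht : t ∈ Om K) (ht1 : t ≠ 1) (ht' : t' ∈ Om K) (ht1' : t' ≠ 1) :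
    ∃ n ∈ Subgroup.normalizer (K : Set G), n * t * n⁻¹ = t' := by
  have ho : ∀ x ∈ Om K, x ≠ 1 → orderOf x = 2 := fun x hx h1 =>
    orderOf_eq_prime (by rw [pow_two]; exact (m.kd.mem_om.mp hx).2) h1
  obtain ⟨g, hg, hgt⟩ := m.conj_in_M (ho t ht ht1) (m.om_le ht) (ho t' ht' ht1') (m.om_le ht')
  obtain ⟨r, hr, n, hn, rfl⟩ := m.exists_mul hg
  refine ⟨n, hn, ?_⟩
  set s := n * t * n⁻¹ with hs
  have hsO : s ∈ Om K := m.conj_om_mem hn ht
  have hrs : r * s * r⁻¹ = t' := by rw [hs, ← hgt]; group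
  have h1 : t' * s⁻¹ ∈ R := by
    rw [← hrs, show r * s * r⁻¹ * s⁻¹ = r * (s * r⁻¹ * s⁻¹) by group]
    exact mul_mem hr ((Subgroup.mem_normalizer_iff.mp (m.le_normalizer_R (m.om_le hsO)) _).mp
      (inv_mem hr))
  have h2 : t' * s⁻¹ ∈ R ⊓ Om K :=
    Subgroup.mem_inf.mpr ⟨h1, (Om K).mul_mem ht' ((Om K).inv_mem hsO)⟩
  rw [m.R_inf_om, Subgroup.mem_bot, mul_inv_eq_one] at h2
  exact h2.symm

end MD

/-- If `2 ^ r - 1` is a power of the odd prime `p`, it is `p` or `1`. -/
theorem two_pow_sub_one_eq {q j r : ℕ} (hq : q.Prime) (hq2 : q ≠ 2) (hj : j ≠ 0)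
    (h : q ^ j + 1 = 2 ^ r) : q + 1 = 2 ^ r := by
  have hqo : q % 2 = 1 := Nat.odd_iff.mp (hq.odd_of_ne_two hq2)
  have hq3 : 3 ≤ q := by have := hq.two_le; omega
  rcases Nat.even_or_odd j with ⟨i, hi⟩ | hodd
  · exfalso
    have h4 : q ^ j % 4 = 1 := by
      rw [hi, ← two_mul, pow_mul, Nat.pow_mod]
      have : q ^ 2 % 4 = 1 := by
        rw [Nat.pow_mod]
        rcases (show q % 4 = 1 ∨ q % 4 = 3 by omega) with e | e <;> rw [e] <;> rfl
      rw [this, one_pow]; rfl
    have hqj : 3 ≤ q ^ j := hq3.trans (Nat.le_self_pow hj q)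
    obtain ⟨r', rfl⟩ : ∃ r', r = r' + 2 := ⟨r - 2, by
      rcases r with _ | _ | r <;> simp at h ⊢ <;> omega⟩
    rw [pow_add] at h
    omega
  · have hd : q + 1 ∣ 2 ^ r := h ▸ by simpa using hodd.nat_add_dvd_pow_add_pow q 1
    obtain ⟨s, hsr, hs⟩ := (Nat.dvd_prime_pow Nat.prime_two).mp hd
    rcases hsr.eq_or_lt with rfl | hlt
    · exact hs
    exfalso
    have hs2 : 2 ≤ s := by
      rcases s with _ | _ | s <;> simp at hs ⊢ <;> omega
    have hsq : q ^ 2 ≡ 1 [MOD 2 ^ (s + 1)] := by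
      obtain ⟨t, ht⟩ : ∃ t, s = t + 1 := ⟨s - 1, by omega⟩
      have hz : (2 ^ (s + 1) : ℤ) ∣ (q : ℤ) ^ 2 - 1 := by
        have hq' : (q : ℤ) = 2 ^ s - 1 := by
          have : ((q + 1 : ℕ) : ℤ) = ((2 ^ s : ℕ) : ℤ) := by rw [hs]
          push_cast at this; linarith
        refine ⟨2 ^ t - 1, ?_⟩
        rw [hq', ht]; ring
      exact ((Nat.modEq_iff_dvd).mpr (by exact_mod_cast hz)).symm
    obtain ⟨i, hi⟩ := hodd
    have hpow : q ^ j ≡ q [MOD 2 ^ (s + 1)] := by
      have h5 := (hsq.pow i).mul_right q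
      rw [← pow_mul, one_pow, one_mul, ← pow_succ, ← hi] at h5
      exact h5
    have h0 : q ^ j + 1 ≡ 0 [MOD 2 ^ (s + 1)] :=
      Nat.modEq_zero_iff_dvd.mpr (h ▸ Nat.pow_dvd_pow 2 (by omega))
    have h1 : q + 1 ≡ 0 [MOD 2 ^ (s + 1)] := ((hpow.add_right 1).symm).trans h0
    rw [hs, Nat.modEq_zero_iff_dvd, Nat.pow_dvd_pow_iff_le_right one_lt_two] at h1
    omega

namespace MD

variable {S : Sylow 2 G} {K R M : Subgroup G} (m : MD p S K R M)
include m

/-- The kernel of `N(K)` on `Om K` has index `p`, and `|Om K| = p + 1`. -/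
theorem kernel_index :
    (Subgroup.normalizer (K : Set G) ⊓ Subgroup.centralizer (Om K : Set G)).relIndex
        (Subgroup.normalizer (K : Set G)) = p ∧ Nat.card (Om K) = p + 1 := by
  classical
  let N := Subgroup.normalizer (K : Set G)
  let X := {x : G // x ∈ Om K ∧ x ≠ 1}
  letI act : MulAction N X :=
    { smul := fun n x => ⟨(n : G) * x.1 * (n : G)⁻¹, m.conj_om_mem n.2 x.2.1,
        fun h => x.2.2 (conj_eq_one_iff.mp h)⟩
      one_smul := fun x => Subtype.ext (show (1 : G) * x.1 * (1 : G)⁻¹ = x.1 by simp)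
      mul_smul := fun a b x => Subtype.ext
        (show ((a : G) * b) * x.1 * ((a : G) * b)⁻¹ = (a : G) * ((b : G) * x.1 * (b : G)⁻¹) * (a : G)⁻¹ by
          group) }
  let φ := MulAction.toPermHom N X
  have hker : φ.ker = (N ⊓ Subgroup.centralizer (Om K : Set G)).subgroupOf N := by
    ext n
    rw [MonoidHom.mem_ker, Subgroup.mem_subgroupOf]
    constructor
    · intro h
      refine ⟨n.2, fun x hx => ?_⟩
      by_cases hx1 : x = 1
      · simp [hx1]
      have h1 : (n : G) * x * (n : G)⁻¹ = x := congrArg Subtype.val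
        (congrArg (fun f : Equiv.Perm X => f ⟨x, hx, hx1⟩) h)
      exact (mul_inv_eq_iff_eq_mul.mp h1).symm
    · intro h
      refine Equiv.ext fun x => Subtype.ext ?_
      show (n : G) * x.1 * (n : G)⁻¹ = x.1
      exact mul_inv_eq_iff_eq_mul.mpr (h.2 x.1 x.2.1).symm
  have hQ : IsPGroup p φ.range := by
    rintro ⟨_, n, rfl⟩
    obtain ⟨k, a, ha, hk⟩ := Nat.exists_eq_pow_mul_and_not_dvd (orderOf_pos (n : G)).ne' p hp.out.ne_one
    refine ⟨k, Subtype.ext ?_⟩
    show φ n ^ p ^ k = 1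
    rw [← map_pow, ← MonoidHom.mem_ker, hker, Subgroup.mem_subgroupOf]
    have hmem : ((n ^ p ^ k : N) : G) ∈ K := by
      refine m.kd.mem_of_normalizes ?_ (n ^ p ^ k).2
      rw [Subgroup.coe_pow, orderOf_pow, hk, Nat.gcd_eq_right (Dvd.intro a rfl),
        Nat.mul_div_cancel_left _ (pow_pos hp.out.pos k)]
      exact (hp.out.coprime_iff_not_dvd.mpr ha).symm
    exact ⟨(n ^ p ^ k).2, fun x hx => m.kd.comm (m.kd.om_le_K hx) hmem⟩
  obtain ⟨t, ht, htO⟩ := m.exists_involution_mem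
  have ht1 : t ≠ 1 := fun h => by simp [h] at ht
  have horb : MulAction.orbit φ.range (⟨t, htO, ht1⟩ : X) = Set.univ := by
    refine Set.eq_univ_of_forall fun x => ?_
    obtain ⟨n, hn, hnx⟩ := m.transitive htO ht1 x.2.1 x.2.2
    exact ⟨⟨φ ⟨n, hn⟩, ⟨n, hn⟩, rfl⟩, Subtype.ext hnx⟩
  obtain ⟨j, hj⟩ := hQ.card_orbit (⟨t, htO, ht1⟩ : X)
  rw [horb, Nat.card_congr (Equiv.Set.univ X)] at hj
  have hX : Nat.card X + 1 = Nat.card (Om K) := by
    have e : Nat.card (Om K) = Nat.card (Option X) := by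
      refine Nat.card_congr
        { toFun := fun x => if h : (x : G) = 1 then none else some ⟨x, x.2, h⟩
          invFun := fun o => o.elim 1 fun y => ⟨y.1, y.2.1⟩
          left_inv := fun x => by
            by_cases h : (x : G) = 1
            · simp only [dif_pos h]; exact Subtype.ext h.symm
            · simp only [dif_neg h]; rfl
          right_inv := fun o => by
            cases o with
            | none => simp
            | some y => simp [y.2.2] }
    rw [e, Finite.card_option]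
  obtain ⟨r, hr⟩ := IsPGroup.iff_card.mp m.kd.om_isPGroup
  have h8 := m.kd.eight_le
  have hj0 : j ≠ 0 := by rintro rfl; simp at hj; omega
  have hp1 : p + 1 = 2 ^ r := two_pow_sub_one_eq hp.out m.kd.ctx.two_ne hj0 (by rw [← hj, hX, hr])
  have hcard : Nat.card (Om K) = p + 1 := by rw [hr, hp1]
  refine ⟨?_, hcard⟩
  have hXp : Nat.card X = p := by omega
  have hrel : (N ⊓ Subgroup.centralizer (Om K : Set G)).relIndex N = Nat.card φ.range := by
    rw [Subgroup.relIndex, ← hker, Subgroup.index_ker]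
  rw [hrel]
  obtain ⟨i, hi⟩ := IsPGroup.iff_card.mp hQ
  have hdvd : p ^ i ∣ p.factorial := by
    rw [← hi, ← hXp, ← Nat.card_perm]
    exact Subgroup.card_subgroup_dvd_card _
  have hi1 : i ≤ 1 := by
    by_contra hcon
    have h2 : p ^ 2 ∣ p.factorial := (Nat.pow_dvd_pow p (by omega)).trans hdvd
    obtain ⟨q, rfl⟩ : ∃ q, p = q + 1 := ⟨p - 1, by have := hp.out.pos; omega⟩
    rw [Nat.factorial_succ, pow_two] at h2
    have := (hp.out.dvd_factorial).mp ((Nat.mul_dvd_mul_iff_left hp.out.pos).mp h2)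
    omega
  have hle : p ≤ p ^ i := by
    have h1 : Nat.card X ≤ Nat.card φ.range := by
      rw [← Nat.card_congr (Equiv.Set.univ X), ← horb]
      exact Nat.card_le_card_of_surjective (fun q : φ.range =>
        (⟨q • (⟨t, htO, ht1⟩ : X), MulAction.mem_orbit _ q⟩ :
          MulAction.orbit φ.range (⟨t, htO, ht1⟩ : X)))
        (by rintro ⟨_, q, rfl⟩; exact ⟨q, rfl⟩)
    omega
  rcases i with _ | _ | i
  · simp at hle; have := hp.out.two_le; omega
  · rw [hi, pow_one]
  · omega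

/-- `M₁ = R C_{N(K)}(Om K)`: a normal subgroup of index `p` of `M`. -/
theorem exists_kernel :
    ∃ M₁ : Subgroup G, R ≤ M₁ ∧ M₁ ≤ M ∧ M ≤ Subgroup.normalizer (M₁ : Set G) ∧
      M₁.relIndex M = p ∧
      M₁ = R ⊔ (Subgroup.normalizer (K : Set G) ⊓ Subgroup.centralizer (Om K : Set G)) := by
  set N := Subgroup.normalizer (K : Set G) with hN
  set C := N ⊓ Subgroup.centralizer (Om K : Set G) with hC
  have hNC : N ≤ Subgroup.normalizer (C : Set G) := by
    rw [Subgroup.le_normalizer_iff]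
    intro n hn x hx
    obtain ⟨hx1, hx2⟩ := Subgroup.mem_inf.mp hx
    refine Subgroup.mem_inf.mpr ⟨N.mul_mem (N.mul_mem hn hx1) (N.inv_mem hn), fun e he => ?_⟩
    have he' : n⁻¹ * e * n ∈ Om K := by simpa using m.conj_om_mem (N.inv_mem hn) he
    have h1 := hx2 _ he'
    calc e * (n * x * n⁻¹) = n * (n⁻¹ * e * n * x) * n⁻¹ := by group
      _ = n * (x * (n⁻¹ * e * n)) * n⁻¹ := by rw [h1]
      _ = n * x * n⁻¹ * e := by group
  have hNR : N ≤ Subgroup.normalizer ((R ⊔ C : Subgroup G) : Set G) :=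
    Cfsg.Comp.sup_le_normalizer m.normalizer_le_normalizer hNC
  have hle : R ⊔ C ≤ M := sup_le m.R_le (inf_le_left.trans m.NK_le)
  refine ⟨R ⊔ C, le_sup_left, hle, ?_, ?_, rfl⟩
  · refine m.eq.le.trans (sup_le ?_ hNR)
    exact le_sup_left.trans Subgroup.le_normalizer
  · have hinf : (R ⊔ C) ⊓ N = C := by
      refine le_antisymm ?_ (le_inf le_sup_right inf_le_left)
      rintro x ⟨hx, hxN⟩
      have hCR : C ≤ Subgroup.normalizer (R : Set G) :=
        inf_le_left.trans m.normalizer_le_normalizer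
      have hset : ((R ⊔ C : Subgroup G) : Set G) = (C : Set G) * (R : Set G) := by
        rw [sup_comm, Subgroup.coe_mul_of_left_le_normalizer_right _ _ hCR]
      have hx' : x ∈ (C : Set G) * (R : Set G) := hset ▸ hx
      obtain ⟨c, hc, r, hr, rfl⟩ := hx'
      have hrN : r ∈ N := by
        have hcN : c ∈ N := (Subgroup.mem_inf.mp hc).1
        simpa using N.mul_mem (N.inv_mem hcN) hxN
      refine C.mul_mem hc (Subgroup.mem_inf.mpr ⟨hrN, fun e he => ?_⟩)
      · have h1 : r * e * r⁻¹ * e⁻¹ ∈ R ⊓ K := by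
          refine Subgroup.mem_inf.mpr ⟨?_, K.mul_mem
            ((Subgroup.mem_normalizer_iff.mp hrN e).mp (m.kd.om_le_K he))
            (K.inv_mem (m.kd.om_le_K he))⟩
          rw [show r * e * r⁻¹ * e⁻¹ = r * (e * r⁻¹ * e⁻¹) by group]
          exact mul_mem hr ((Subgroup.mem_normalizer_iff.mp (m.le_normalizer_R (m.om_le he)) _).mp
            (inv_mem hr))
        rw [Cfsg.Comp.inf_eq_bot_of_isPGroup (p := p) m.isP
          (hp.out.coprime_iff_not_dvd.mp m.kd.cop.symm), Subgroup.mem_bot, mul_inv_eq_one,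
          mul_inv_eq_iff_eq_mul] at h1
        exact h1.symm
    have hMeq : M = N ⊔ (R ⊔ C) :=
      le_antisymm (m.eq.le.trans (sup_le (le_sup_left.trans le_sup_right) le_sup_left))
        (sup_le m.NK_le hle)
    have key : (R ⊔ C).relIndex M = (R ⊔ C).relIndex N := by
      have hnorm : ((R ⊔ C).subgroupOf M).Normal :=
        (Subgroup.normal_subgroupOf_iff_le_normalizer hle).mpr
          (hMeq.le.trans (sup_le hNR Subgroup.le_normalizer))
      show ((R ⊔ C).subgroupOf M).index = _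
      rw [← Subgroup.relIndex_top_right ((R ⊔ C).subgroupOf M)]
      have h1 : N.subgroupOf M ⊔ (R ⊔ C).subgroupOf M = ⊤ := by
        rw [← Subgroup.subgroupOf_sup m.NK_le hle, ← hMeq, Subgroup.subgroupOf_self]
      rw [← h1, Subgroup.relIndex_sup_right, Subgroup.relIndex_subgroupOf m.NK_le]
    rw [key, ← Subgroup.inf_relIndex_right, hinf]
    exact m.kernel_index.1

end MD

end H72.PrimeAbelian
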