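import Cfsg.Agent.H72.PrimeAbelian.Points
import Cfsg.Agent.H33.TwoPrime
import Cfsg.Agent.H1.Wielandt

/-!
Sylow `p`-subgroups of order `p` in `M`: a congruence gives the contradiction; solvability follows.
-/

set_option autoImplicit false

open scoped Pointwise commutatorElement

namespace H72.PrimeAbelian

universe u

variable {p : ℕ} [hp : Fact p.Prime] {G : Type u} [Group G] [Finite G]

namespace FD

variable {K E M M₁ : Subgroup G} (d : FD p K E M M₁)
include d

theorem card_M : Nat.card M = Nat.card M₁ * p := by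
  rw [← Subgroup.relIndex_bot_left, ← Subgroup.relIndex_bot_left,
    ← Subgroup.relIndex_mul_relIndex ⊥ M₁ M bot_le d.M₁_le, d.index₁]

theorem factorization_M : (Nat.card M).factorization p = 1 := by
  obtain ⟨P⟩ : Nonempty (Sylow p M) := inferInstance
  have := d.card_sylow P
  rw [P.card_eq_multiplicity] at this
  exact (Nat.pow_eq_self_iff hp.out.one_lt).mp this

theorem cop₁ : (Nat.card M₁).Coprime p := by
  refine (hp.out.coprime_iff_not_dvd.mpr fun h => ?_).symm
  have h2 : p ^ 2 ∣ Nat.card M := by rw [d.card_M, pow_two]; exact Nat.mul_dvd_mul h dvd_rfl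
  have h3 := (hp.out.pow_dvd_iff_le_factorization Nat.card_pos.ne').mp h2
  rw [d.factorization_M] at h3
  omega

theorem comm₁ {a b : G} (ha : a ∈ M₁) (hb : b ∈ M₁) : a * b = b * a :=
  d.ctx.comm_of_coprime d.cop₁ ha hb

theorem eq_one_of_mem₁ {a : G} (ha : a ∈ M₁) (h : a ^ p = 1) : a = 1 := by
  have h1 : orderOf a ∣ Nat.card M₁ := by
    rw [← Subgroup.orderOf_mk a ha]; exact orderOf_dvd_natCard _
  exact orderOf_eq_one_iff.mp
    (Nat.eq_one_of_dvd_coprimes d.cop₁ h1 (orderOf_dvd_of_pow_eq_one h))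

theorem decomp {x : G} (hxM : x ∈ M) (hx : orderOf x = p) {m : G} (hm : m ∈ M) :
    ∃ r ∈ Subgroup.zpowers x, ∃ k ∈ M₁, m = r * k := by
  have hnx : Subgroup.zpowers x ≤ Subgroup.normalizer (M₁ : Set G) :=
    (Subgroup.zpowers_le).mpr (d.norm₁ hxM)
  have hle : Subgroup.zpowers x ⊔ M₁ ≤ M := sup_le ((Subgroup.zpowers_le).mpr hxM) d.M₁_le
  have hMeq : Subgroup.zpowers x ⊔ M₁ = M := by
    refine le_antisymm hle (Subgroup.relIndex_eq_one.mp ?_)
    have h2 : (Subgroup.zpowers x ⊔ M₁).relIndex M ∣ p :=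
      d.index₁ ▸ Subgroup.relIndex_dvd_of_le_left M le_sup_right
    rcases hp.out.eq_one_or_self_of_dvd _ h2 with h | h
    · exact h
    exfalso
    have h3 := Subgroup.relIndex_mul_relIndex M₁ (Subgroup.zpowers x ⊔ M₁) M le_sup_right hle
    rw [h, d.index₁] at h3
    have h4 : M₁.relIndex (Subgroup.zpowers x ⊔ M₁) = 1 :=
      Nat.eq_of_mul_eq_mul_right hp.out.pos (h3.trans (one_mul p).symm)
    have h5 : x ∈ M₁ := Subgroup.relIndex_eq_one.mp h4 (Subgroup.mem_sup_left (Subgroup.mem_zpowers x))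
    have := d.eq_one_of_mem₁ h5 (by rw [← hx, pow_orderOf_eq_one])
    rw [this, orderOf_one] at hx
    exact hp.out.ne_one hx.symm
  rw [← hMeq] at hm
  have hset := Subgroup.coe_mul_of_left_le_normalizer_right _ M₁ hnx
  rw [← SetLike.mem_coe, hset] at hm
  obtain ⟨r, hr, k, hk, h⟩ := hm
  exact ⟨r, hr, k, hk, h.symm⟩

/-- Elements of order `p` of `M` act without fixed points on `M₁`. -/
theorem eq_one_of_commute {x k : G} (hxM : x ∈ M) (hx : orderOf x = p) (hk : k ∈ M₁)
    (hxk : x * k = k * x) : k = 1 := by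
  by_contra hk1
  obtain ⟨q, hq, hqd⟩ := Nat.exists_prime_and_dvd (fun h => hk1 (orderOf_eq_one_iff.mp h))
  haveI := Fact.mk hq
  set y := k ^ (orderOf k / q) with hy
  have hyo : orderOf y = q := orderOf_pow_orderOf_div (orderOf_pos k).ne' hqd
  have hy₁ : y ∈ M₁ := M₁.pow_mem hk _
  have hxy : x * y = y * x := ((Commute.pow_right hxk _) : Commute x y)
  have hy1 : y ≠ 1 := fun h => hq.ne_one (by rw [← hyo, h, orderOf_one])
  have hqp : q ≠ p := by
    rintro rfl
    exact hy1 (d.eq_one_of_mem₁ hy₁ (by rw [← hyo, pow_orderOf_eq_one]))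
  have hpgroup : IsPGroup q (Subgroup.zpowers (⟨y, hy₁⟩ : M₁)) :=
    IsPGroup.of_card (n := 1) (by rw [Nat.card_zpowers, Subgroup.orderOf_mk, hyo, pow_one])
  obtain ⟨Q, hQ⟩ := hpgroup.exists_le_sylow
  set QG := (Q : Subgroup M₁).map M₁.subtype with hQG
  have hQG₁ : QG ≤ M₁ := Subgroup.map_subtype_le _
  have hQp : IsPGroup q QG := Q.2.map _
  have hyQ : y ∈ QG := ⟨⟨y, hy₁⟩, hQ (Subgroup.mem_zpowers _), rfl⟩
  have hNM : Subgroup.normalizer (QG : Set G) ≤ M := by
    intro g hg
    obtain ⟨t, ht, -, hto⟩ := d.exists_involution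
    refine d.conj t g hto (d.E_le ht) (d.centralizer_le hy₁ hy1 ?_)
    have hg' : g⁻¹ * y * g ∈ QG := by
      simpa using (Subgroup.mem_normalizer_iff.mp (Subgroup.inv_mem _ hg) y).mp hyQ
    have h1 := (d.eq₁.le (hQG₁ hg')).2 t ht
    refine Subgroup.mem_centralizer_singleton_iff.mpr ?_
    calc g * t * g⁻¹ * y = g * (t * (g⁻¹ * y * g)) * g⁻¹ := by group
      _ = g * ((g⁻¹ * y * g) * t) * g⁻¹ := by rw [h1]
      _ = y * (g * t * g⁻¹) := by group
  obtain ⟨T, hT⟩ := hQp.exists_le_sylow
  have hTQ : QG = (T : Subgroup G) := by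
    by_contra hne
    obtain ⟨z, hzT, hzQ, hzN⟩ := exists_normalizing T.2 hT hne
    have hzM := hNM hzN
    have hQM : Nat.card ↥((T : Subgroup G) ⊓ M) ∣ Nat.card QG := by
      obtain ⟨j, hj⟩ := IsPGroup.iff_card.mp (T.2.to_le inf_le_left : IsPGroup q ↥((T : Subgroup G) ⊓ M))
      have h1 : q ^ j ∣ Nat.card M₁ * p := by
        rw [← hj, ← d.card_M]; exact Subgroup.card_dvd_of_le inf_le_right
      have h2 : q ^ j ∣ Nat.card M₁ :=
        (Nat.Coprime.pow_left j ((Nat.coprime_primes hq hp.out).mpr hqp)).dvd_of_dvd_mul_right h1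
      rw [hj, hQG, Subgroup.card_subtype, Q.card_eq_multiplicity]
      exact Nat.pow_dvd_pow q ((hq.pow_dvd_iff_le_factorization Nat.card_pos.ne').mp h2)
    have hle : QG ≤ (T : Subgroup G) ⊓ M := le_inf hT (hQG₁.trans d.M₁_le)
    exact hzQ ((Subgroup.eq_of_le_of_card_ge hle (Nat.le_of_dvd Nat.card_pos hQM)).symm.le
      (Subgroup.mem_inf.mpr ⟨hzT, hzM⟩))
  haveI : IsMulCommutative (T : Subgroup G) :=
    ⟨⟨fun a b => Subtype.ext (d.comm₁ (hQG₁ (hTQ.ge a.2)) (hQG₁ (hTQ.ge b.2)))⟩⟩
  refine hy1 (d.ctx.eq_one_of_central T (hTQ.le hyQ) fun g hg => ?_)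
  rw [← hTQ] at hg
  obtain ⟨r, hr, k', hk', rfl⟩ := d.decomp hxM hx (hNM hg)
  obtain ⟨i, rfl⟩ := Subgroup.mem_zpowers_iff.mp hr
  exact ((Commute.zpow_left hxy i).mul_left (d.comm₁ hk' hy₁ : Commute k' y))

theorem absurd' : False := by
  classical
  -- an inverted element
  obtain ⟨g₀, hg₀⟩ : ∃ g : G, g ∉ M := by
    by_contra hcon
    push Not at hcon
    exact d.ne_top (eq_top_iff.mpr fun g _ => hcon g)
  obtain ⟨u, hu, huq⟩ := d.exists_invol (g := g₀)
  have huM : u ∉ M := fun h => hg₀ (by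
    have := M.mul_mem h (QuotientGroup.eq.mp huq); simpa using this)
  obtain ⟨x, hx2, hx, hxu⟩ := d.exists_inverted hu huM
  have hxM : x ∈ M := (d.mem_two.mp hx2).1
  -- small `p`-subgroups
  have hsmall : ∀ A : Subgroup G, IsPGroup p A → A ≤ M → Nat.card A ≤ p := by
    intro A hA hAM
    obtain ⟨j, hj⟩ := IsPGroup.iff_card.mp hA
    have h1 := (hp.out.pow_dvd_iff_le_factorization Nat.card_pos.ne').mp
      (hj ▸ Subgroup.card_dvd_of_le hAM)
    rw [d.factorization_M] at h1
    rw [hj]
    exact (Nat.pow_le_pow_right hp.out.pos h1).trans_eq (pow_one p)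
  have htwo : ∀ g : G, g ∉ M → ∀ z ∈ d.two g, orderOf z = p → d.two g = Subgroup.zpowers z := by
    intro g hg z hz hzo
    refine (Subgroup.eq_of_le_of_card_ge ((Subgroup.zpowers_le).mpr hz) ?_).symm
    rw [Nat.card_zpowers, hzo]
    exact hsmall _ (d.two_isPGroup hg) inf_le_left
  -- the fixed points of `x` other than `M`
  let X := Subgroup.zpowers x
  let Fx := {q : G ⧸ M // q ∈ MulAction.fixedPoints X (G ⧸ M) ∧ q ≠ ((1 : G) : G ⧸ M)}
  let O := {q : G ⧸ M // q ≠ ((1 : G) : G ⧸ M)}
  have hne_iff : ∀ g : G, (g : G ⧸ M) ≠ ((1 : G) : G ⧸ M) ↔ g ∉ M := fun g => by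
    rw [Ne, QuotientGroup.eq, mul_one, inv_mem_iff]
  have hbase : ∀ k ∈ M, k • ((1 : G) : G ⧸ M) = ((1 : G) : G ⧸ M) := fun k hk =>
    smul_coset_eq.mpr (by simpa using hk)
  let Φ : M₁ × Fx → O := fun kq => ⟨(kq.1 : G) • kq.2.1, fun h => kq.2.2.2 (by
    have := congrArg ((kq.1 : G)⁻¹ • ·) h
    simpa [inv_smul_smul, hbase _ (M.inv_mem (d.M₁_le kq.1.2))] using this)⟩
  have hΦ : Function.Bijective Φ := by
    constructor
    · rintro ⟨k, q, hq, hq1⟩ ⟨k', q', hq', hq1'⟩ he
      have he' : (k : G) • q = (k' : G) • q' := congrArg Subtype.val he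
      obtain ⟨g, rfl⟩ := QuotientGroup.mk_surjective q'
      set e := (k : G)⁻¹ * k' with hed
      have hq0 : q = ((e * g : G) : G ⧸ M) := by
        have h1 := congrArg ((k : G)⁻¹ • ·) he'
        simp only [inv_smul_smul] at h1
        rw [h1, ← mul_smul]; rfl
      have he₁ : e ∈ M₁ := M₁.mul_mem (M₁.inv_mem k.2) k'.2
      have hf := d.fixed_iff.mp (hq0 ▸ hq) x (Subgroup.mem_zpowers x)
      have hg' := d.fixed_iff.mp hq' x (Subgroup.mem_zpowers x)
      have hxe : e⁻¹ * x * e * x⁻¹ ∈ M₁ := by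
        rw [show e⁻¹ * x * e * x⁻¹ = e⁻¹ * (x * e * x⁻¹) by group]
        exact M₁.mul_mem (M₁.inv_mem he₁) ((Subgroup.mem_normalizer_iff.mp (d.norm₁ hxM) e).mp he₁)
      have hstab : g⁻¹ * (e⁻¹ * x * e * x⁻¹) * g ∈ M := by
        have := M.mul_mem hf (M.inv_mem hg')
        convert this using 1
        group
      have hgM := (hne_iff g).mp hq1'
      have hfin : e⁻¹ * x * e * x⁻¹ = 1 :=
        d.eq_one_of_mem₁ hxe (d.two_pow hgM (d.mem_two.mpr ⟨d.M₁_le hxe, hstab⟩))
      have hcomm : x * e = e * x := by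
        calc x * e = e * (e⁻¹ * x * e * x⁻¹) * x := by group
          _ = e * x := by rw [hfin, mul_one]
      have he1 : e = 1 := d.eq_one_of_commute hxM hx he₁ hcomm
      have hkk : k = k' := Subtype.ext (inv_mul_eq_one.mp he1)
      refine Prod.ext hkk (Subtype.ext ?_)
      show q = (g : G ⧸ M)
      rw [hq0, he1, one_mul]
    · rintro ⟨q, hq⟩
      obtain ⟨h, rfl⟩ := QuotientGroup.mk_surjective q
      have hhM := (hne_iff h).mp hq
      obtain ⟨v, hv, hvq⟩ := d.exists_invol (g := h)
      have hvM : v ∉ M := (hne_iff v).mp (hvq ▸ hq)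
      obtain ⟨z, hz, hzo, -⟩ := d.exists_inverted hv hvM
      rw [d.two_eq_of_coset hvq] at hz
      have hzM := (d.mem_two.mp hz).1
      -- `z` is conjugate into `⟨x⟩` by an element of `M₁`
      have hXs : ∀ w : G, (hw : w ∈ M) → orderOf w = p → ∃ Q : Sylow p M,
          (Q : Subgroup M) = (Subgroup.zpowers w).subgroupOf M := by
        intro w hw hwo
        refine ⟨Sylow.ofCard ((Subgroup.zpowers w).subgroupOf M) ?_, rfl⟩
        rw [Nat.card_congr (Subgroup.subgroupOfEquivOfLe ((Subgroup.zpowers_le).mpr hw)).toEquiv,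
          Nat.card_zpowers, hwo, d.factorization_M, pow_one]
      obtain ⟨Qz, hQz⟩ := hXs z hzM hzo
      obtain ⟨Qx, hQx⟩ := hXs x hxM hx
      obtain ⟨m, hm⟩ := MulAction.exists_smul_eq M Qz Qx
      have hmz : (m : G) * z * (m : G)⁻¹ ∈ X := by
        have h1 : m * ⟨z, hzM⟩ * m⁻¹ ∈ ((m • Qz : Sylow p M) : Subgroup M) := by
          rw [Sylow.coe_subgroup_smul, hQz]
          exact ⟨⟨z, hzM⟩, Subgroup.mem_subgroupOf.mpr (Subgroup.mem_zpowers z), rfl⟩
        rw [hm, hQx] at h1
        exact h1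
      obtain ⟨r, hr, k, hk, hmrk⟩ := d.decomp hxM hx m.2
      have hkz : k * z * k⁻¹ ∈ X := by
        rw [show k * z * k⁻¹ = r⁻¹ * ((m : G) * z * (m : G)⁻¹) * r by rw [hmrk]; group]
        exact X.mul_mem (X.mul_mem (X.inv_mem hr) hmz) hr
      have hXk : ∀ w ∈ X, k⁻¹ * w * k ∈ Subgroup.zpowers z := by
        have hgen : Subgroup.zpowers (k * z * k⁻¹) = X := by
          refine Subgroup.eq_of_le_of_card_ge ((Subgroup.zpowers_le).mpr hkz) ?_
          rw [Nat.card_zpowers, Nat.card_zpowers, hx,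
            show orderOf (k * z * k⁻¹) = orderOf z from (MulAut.conj k).orderOf_eq z, hzo]
        intro w hw
        rw [← hgen] at hw
        obtain ⟨i, rfl⟩ := Subgroup.mem_zpowers_iff.mp hw
        refine ⟨i, ?_⟩
        rw [conj_zpow]; group
      refine ⟨(⟨k⁻¹, M₁.inv_mem hk⟩, ⟨(k : G) • (h : G ⧸ M), ?_, ?_⟩), ?_⟩
      · show ((k * h : G) : G ⧸ M) ∈ MulAction.fixedPoints X (G ⧸ M)
        refine d.fixed_iff.mpr fun w hw => ?_
        have h2 : k⁻¹ * w * k ∈ d.two h := by
          obtain ⟨i, hi⟩ := Subgroup.mem_zpowers_iff.mp (hXk w hw)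
          rw [← hi]; exact (d.two h).zpow_mem hz i
        rw [show (k * h)⁻¹ * w * (k * h) = h⁻¹ * (k⁻¹ * w * k) * h by group]
        exact (d.mem_two.mp h2).2
      · show ((k * h : G) : G ⧸ M) ≠ ((1 : G) : G ⧸ M)
        exact (hne_iff _).mpr fun h' => hhM (by
          simpa using M.mul_mem (M.inv_mem (d.M₁_le hk)) h')
      · exact Subtype.ext (inv_smul_smul (k : G) (h : G ⧸ M))
  have hn : M.index = Nat.card M₁ * Nat.card Fx + 1 := by
    rw [Subgroup.index_eq_card, ← Nat.card_prod, Nat.card_congr (Equiv.ofBijective Φ hΦ)]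
    rw [← Finite.card_option]
    exact Nat.card_congr
      { toFun := fun q => if h : q = ((1 : G) : G ⧸ M) then none else some ⟨q, h⟩
        invFun := fun o => o.elim ((1 : G) : G ⧸ M) Subtype.val
        left_inv := fun q => by
          by_cases h : q = ((1 : G) : G ⧸ M)
          · simp [h]
          · simp [h]
        right_inv := fun o => by
          cases o with
          | none => simp
          | some y => simp [y.2] }
  -- `|M₁| ≡ 1`
  have hM₁ : (Nat.card M₁ : ZMod p) = 1 := by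
    letI : MulAction X M₁ :=
      { smul := fun w k => ⟨(w : G) * k * (w : G)⁻¹, (Subgroup.mem_normalizer_iff.mp
          (d.norm₁ ((Subgroup.zpowers_le).mpr hxM w.2)) k).mp k.2⟩
        one_smul := fun k => Subtype.ext (show (1 : G) * k * (1 : G)⁻¹ = k by simp)
        mul_smul := fun a b k => Subtype.ext (show ((a : G) * b) * k * ((a : G) * b)⁻¹ =
          (a : G) * ((b : G) * k * (b : G)⁻¹) * (a : G)⁻¹ by group) }
    have hXp : IsPGroup p X := IsPGroup.of_card (n := 1) (by rw [Nat.card_zpowers, hx, pow_one])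
    have h := hXp.card_modEq_card_fixedPoints M₁
    have : Nat.card (MulAction.fixedPoints X M₁) = 1 := by
      refine Nat.card_eq_one_iff_unique.mpr ⟨⟨fun a b => ?_⟩,
        ⟨⟨1, fun w => Subtype.ext (show (w : G) * 1 * (w : G)⁻¹ = 1 by simp)⟩⟩⟩
      have hone : ∀ a : MulAction.fixedPoints X M₁, a.1 = 1 := fun a => Subtype.ext
        (d.eq_one_of_commute hxM hx a.1.2 (mul_inv_eq_iff_eq_mul.mp
          (congrArg Subtype.val (a.2 ⟨x, Subgroup.mem_zpowers x⟩))))
      exact Subtype.ext ((hone a).trans (hone b).symm)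
    rw [this, ← ZMod.natCast_eq_natCast_iff] at h
    simpa using h
  -- the involutions inverting `x`
  let I := {v : G // orderOf v = 2 ∧ v * x * v⁻¹ = x⁻¹}
  have hI : Nat.card I = Nat.card Fx * p := by
    have key : ∀ v : I, (v.1 : G ⧸ M) ∈ MulAction.fixedPoints X (G ⧸ M) ∧
        (v.1 : G ⧸ M) ≠ ((1 : G) : G ⧸ M) := fun v => by
      refine ⟨d.fixed_iff.mpr fun w hw => ?_, (hne_iff _).mpr ?_⟩
      · obtain ⟨i, rfl⟩ := Subgroup.mem_zpowers_iff.mp hw
        have h1 : v.1 * x ^ i * v.1⁻¹ = (x⁻¹) ^ i := by rw [← conj_zpow, v.2.2]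
        rw [conj_inv_self v.2.1] at h1 ⊢
        rw [h1]; exact M.zpow_mem (M.inv_mem hxM) i
      · simpa using d.not_both hx v.2.1 v.2.2 (h := 1) (by simpa using hxM)
    have e : I ≃ Σ q : Fx, d.invs q.1 :=
      { toFun := fun v => ⟨⟨(v.1 : G ⧸ M), key v⟩, v.1, v.2.1, rfl⟩
        invFun := fun s => ⟨s.2.1, s.2.2.1, by
          obtain ⟨⟨q, hq, hq1⟩, v, hv, hvq⟩ := s
          show v * x * v⁻¹ = x⁻¹
          have hvq' : (v : G ⧸ M) = q := hvq
          have hvM : v ∉ M := (hne_iff v).mp (hvq' ▸ hq1)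
          have hxv : x ∈ d.two v := d.mem_two.mpr
            ⟨hxM, d.fixed_iff.mp (hvq' ▸ hq) x (Subgroup.mem_zpowers x)⟩
          obtain ⟨z, hz, hzo, hzi⟩ := d.exists_inverted hv hvM
          obtain ⟨i, hi⟩ := Subgroup.mem_zpowers_iff.mp (htwo v hvM z hz hzo ▸ hxv)
          rw [← hi, ← conj_zpow, hzi, inv_zpow]⟩
        left_inv := fun v => rfl
        right_inv := fun s => by
          obtain ⟨⟨q, hq⟩, v, hv, hvq⟩ := s
          have hvq' : (v : G ⧸ M) = q := hvq
          subst hvq'
          rfl }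
    haveI := Fintype.ofFinite Fx
    rw [Nat.card_congr e, Nat.card_sigma, Finset.sum_congr rfl fun q _ => d.card_invs q.1,
      Finset.sum_const, Finset.card_univ, smul_eq_mul, Nat.card_eq_fintype_card]
  -- `I` is an orbit of the centraliser
  set C := Subgroup.centralizer ({x} : Set G) with hC
  have hCu : ∀ c ∈ C, u * c * u⁻¹ ∈ C := by
    intro c hc
    rw [hC, Subgroup.mem_centralizer_singleton_iff] at hc ⊢
    have h2 : x = u * x⁻¹ * u⁻¹ := by
      calc x = (u * x * u⁻¹)⁻¹ := by rw [hxu, inv_inv]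
        _ = _ := by group
    calc u * c * u⁻¹ * x = u * c * u⁻¹ * (u * x⁻¹ * u⁻¹) := by rw [← h2]
      _ = u * (c * x⁻¹) * u⁻¹ := by group
      _ = u * (x⁻¹ * c) * u⁻¹ := by rw [(Commute.inv_right (hc : Commute c x)).eq]
      _ = u * x⁻¹ * u⁻¹ * (u * c * u⁻¹) := by group
      _ = x * (u * c * u⁻¹) := by rw [← h2]
  have hCodd := d.odd_centralizer hx hu hxu
  have hinvx : ∀ c ∈ C, ∀ v : G, v * x * v⁻¹ = x⁻¹ → c * v * c⁻¹ * x * (c * v * c⁻¹)⁻¹ = x⁻¹ := by
    intro c hc v hv
    have h1 : c * x = x * c := Subgroup.mem_centralizer_singleton_iff.mp hc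
    have h2 : c⁻¹ * x * c = x := by rw [mul_assoc, ← h1, inv_mul_cancel_left]
    have h3 : c * x⁻¹ * c⁻¹ = x⁻¹ := by
      have : c * x * c⁻¹ = x := by rw [h1, mul_inv_cancel_right]
      rw [← conj_inv, this]
    calc c * v * c⁻¹ * x * (c * v * c⁻¹)⁻¹ = c * (v * (c⁻¹ * x * c) * v⁻¹) * c⁻¹ := by group
      _ = c * x⁻¹ * c⁻¹ := by rw [h2, hv]
      _ = x⁻¹ := h3
  letI actI : MulAction C I :=
    { smul := fun c v => ⟨(c : G) * v.1 * (c : G)⁻¹,
        ((MulAut.conj (c : G)).orderOf_eq v.1).trans v.2.1, hinvx c c.2 v.1 v.2.2⟩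
      one_smul := fun v => Subtype.ext (show (1 : G) * v.1 * (1 : G)⁻¹ = v.1 by simp)
      mul_smul := fun a b v => Subtype.ext (show ((a : G) * b) * v.1 * ((a : G) * b)⁻¹ =
        (a : G) * ((b : G) * v.1 * (b : G)⁻¹) * (a : G)⁻¹ by group) }
  have htrans : MulAction.orbit C (⟨u, hu, hxu⟩ : I) = Set.univ := by
    refine Set.eq_univ_of_forall fun v => ?_
    obtain ⟨v, hv, hvx⟩ := v
    set c := u * v with hc
    have huu : u * u = 1 := by rw [← pow_two, ← hu, pow_orderOf_eq_one]
    have hcC : c ∈ C := by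
      rw [hC, Subgroup.mem_centralizer_singleton_iff]
      have h1 : c * x * c⁻¹ = x := by
        calc c * x * c⁻¹ = u * (v * x * v⁻¹) * u⁻¹ := by rw [hc]; group
          _ = x := by rw [hvx, ← conj_inv, hxu, inv_inv]
      exact mul_inv_eq_iff_eq_mul.mp h1
    have hcinv : u * c * u⁻¹ = c⁻¹ := by
      rw [hc, mul_inv_rev, conj_inv_self hu, conj_inv_self hv, ← mul_assoc u u v, huu, one_mul]
    have hodd : Odd (orderOf c) := by
      refine Nat.odd_iff.mpr (Nat.two_dvd_ne_zero.mp fun h => hCodd ?_)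
      exact h.trans (Subgroup.orderOf_mk c hcC ▸ orderOf_dvd_natCard _)
    obtain ⟨j, hj⟩ := hodd
    set e := c ^ (j + 1) with he
    have hee : e * e = c := by
      rw [he, ← pow_add, show j + 1 + (j + 1) = orderOf c + 1 by omega, pow_succ,
        pow_orderOf_eq_one, one_mul]
    have heu : u * e * u⁻¹ = e⁻¹ := by rw [he, ← conj_pow, hcinv, inv_pow]
    refine ⟨⟨e⁻¹, C.inv_mem (C.pow_mem hcC _)⟩, Subtype.ext ?_⟩
    show e⁻¹ * u * e⁻¹⁻¹ = v
    rw [inv_inv]
    have h1 : e⁻¹ * u = u * e := by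
      rw [← heu]; simp [mul_assoc, huu, conj_inv_self hu]
    rw [h1, mul_assoc, hee, hc, ← mul_assoc, huu, one_mul]
  have hIdx : Nat.card I = (MulAction.stabilizer C (⟨u, hu, hxu⟩ : I)).index := by
    rw [MulAction.index_stabilizer, htrans, Set.ncard_univ]
  have hpow : ∀ q : ℕ, q.Prime → q ∣ Nat.card I → q = p := by
    intro q hq hqI
    by_contra hqp
    haveI := Fact.mk hq
    have hcop : (Nat.card (Subgroup.zpowers u)).Coprime (Nat.card C) := by
      rw [Nat.card_zpowers, hu]; exact Nat.prime_two.coprime_iff_not_dvd.mpr hCodd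
    have hnorm : Subgroup.zpowers u ≤ Subgroup.normalizer (C : Set G) := by
      refine (Subgroup.zpowers_le).mpr (Subgroup.mem_normalizer_iff.mpr fun c => ⟨hCu c, fun h => ?_⟩)
      have := hCu _ h
      rw [conj_inv_self hu] at this
      rwa [show u * (u * c * u) * u = c by
        calc u * (u * c * u) * u = (u * u) * c * (u * u) := by group
          _ = c := by rw [← pow_two, ← hu, pow_orderOf_eq_one, one_mul, mul_one]] at this
    obtain ⟨Q, hQu⟩ := H1.exists_invariant_sylow hnorm hcop (Or.inl inferInstance) q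
    have hQcop : (Nat.card ((Q : Subgroup C).map C.subtype)).Coprime p := by
      rw [Subgroup.card_subtype, Q.card_eq_multiplicity]
      exact Nat.Coprime.pow_left _ ((Nat.coprime_primes hq hp.out).mpr hqp)
    have hucent := d.ctx.le_centralizer_of_normalizes (A := Subgroup.zpowers u)
      (by rw [Nat.card_zpowers, hu]; exact (Nat.coprime_primes Nat.prime_two hp.out).mpr d.ctx.two_ne.symm)
      hQcop hQu
    have hle : (Q : Subgroup C) ≤ MulAction.stabilizer C (⟨u, hu, hxu⟩ : I) := by
      intro c hc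
      refine MulAction.mem_stabilizer_iff.mpr (Subtype.ext ?_)
      show (c : G) * u * (c : G)⁻¹ = u
      have := hucent (Subgroup.mem_zpowers u) (c : G) ⟨c, hc, rfl⟩
      rw [this, mul_inv_cancel_right]
    exact Q.not_dvd_index ((hIdx ▸ hqI).trans (Subgroup.index_dvd_of_le hle))
  obtain ⟨e, he⟩ : ∃ e, Nat.card I = p ^ e := ⟨_, Nat.eq_prime_pow_of_unique_prime_dvd
    (by rw [hIdx]; exact Subgroup.index_ne_zero_of_finite) fun {q} hq hd => hpow q hq hd⟩
  have hFx1 : Nat.card Fx = 1 := by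
    by_contra hne
    have h1 : Nat.card Fx * p = p ^ e := hI ▸ he
    have he2 : 2 ≤ e := by
      rcases e with _ | _ | e
      · rw [pow_zero] at h1
        exact absurd (Nat.eq_one_of_mul_eq_one_left h1) hp.out.ne_one
      · rw [pow_one] at h1
        exact absurd (Nat.eq_of_mul_eq_mul_right hp.out.pos (h1.trans (one_mul p).symm)) hne
      · omega
    have hpn : ¬ p ∣ M.index := by
      intro h
      rw [hn] at h
      have hpf : p ∣ Nat.card Fx := by
        have : p * p ∣ Nat.card Fx * p := by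
          rw [h1, ← pow_two]; exact Nat.pow_dvd_pow p he2
        exact Nat.dvd_of_mul_dvd_mul_right hp.out.pos this
      exact hp.out.not_dvd_one ((Nat.dvd_add_right (dvd_mul_of_dvd_right hpf _)).mp h)
    have hG : (Nat.card G).factorization p = 1 := by
      rw [← Subgroup.card_mul_index M,
        Nat.factorization_mul Nat.card_pos.ne' Subgroup.index_ne_zero_of_finite, Finsupp.add_apply,
        Nat.factorization_eq_zero_of_not_dvd hpn, add_zero, d.factorization_M]
    have h2 : p ^ e ∣ Nat.card G := by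
      rw [← he, hIdx]
      exact (Subgroup.index_dvd_card _).trans (Subgroup.card_subgroup_dvd_card C)
    have := (hp.out.pow_dvd_iff_le_factorization Nat.card_pos.ne').mp h2
    omega
  rw [hFx1, mul_one] at hn
  have hn2 : (M.index : ZMod p) = 2 := by
    rw [hn, Nat.cast_add, hM₁, Nat.cast_one]; norm_num
  have hpidx : ¬ p ∣ M.index := fun h => by
    rw [(ZMod.natCast_eq_zero_iff _ _).mpr h] at hn2
    have h2 : ((2 : ℕ) : ZMod p) = 0 := by exact_mod_cast hn2.symm
    exact d.ctx.two_ne ((Nat.prime_dvd_prime_iff_eq hp.out Nat.prime_two).mp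
      ((ZMod.natCast_eq_zero_iff _ _).mp h2))
  have hGp : (Nat.card G).factorization p = 1 := by
    rw [← Subgroup.card_mul_index M,
      Nat.factorization_mul Nat.card_pos.ne' Subgroup.index_ne_zero_of_finite, Finsupp.add_apply,
      Nat.factorization_eq_zero_of_not_dvd hpidx, add_zero, d.factorization_M]
  -- the centraliser of `x` is `⟨x⟩`
  have hCX : ∀ c ∈ C, c ∈ X := by
    intro c hc
    have hcx : c * x = x * c := Subgroup.mem_centralizer_singleton_iff.mp hc
    by_cases hcM : c ∈ M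
    · obtain ⟨r, hr, k, hk, rfl⟩ := d.decomp hxM hx hcM
      obtain ⟨i, rfl⟩ := Subgroup.mem_zpowers_iff.mp hr
      have h1 : x * k = k * x := by
        have h3 : x ^ i * (x * k) = x ^ i * (k * x) := by
          calc x ^ i * (x * k) = x * (x ^ i * k) := by
                rw [← mul_assoc, ← mul_assoc, ((Commute.refl x).zpow_left i).eq]
            _ = (x ^ i * k) * x := hcx.symm
            _ = _ := by group
        exact mul_left_cancel h3
      rw [d.eq_one_of_commute hxM hx hk h1, mul_one]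
      exact ⟨i, rfl⟩
    · exfalso
      have hfix : ∀ g : G, g ∈ C → g ∉ M → (g : G ⧸ M) = (u : G ⧸ M) := by
        intro g hg hgM
        have hmem : ∀ h : G, h ∉ M → h⁻¹ * x * h ∈ M →
            (h : G ⧸ M) ∈ MulAction.fixedPoints X (G ⧸ M) ∧ (h : G ⧸ M) ≠ ((1 : G) : G ⧸ M) := by
          intro h hh hxh
          refine ⟨d.fixed_iff.mpr fun w hw => ?_, (hne_iff h).mpr hh⟩
          obtain ⟨i, rfl⟩ := Subgroup.mem_zpowers_iff.mp hw
          have := M.zpow_mem hxh i
          rwa [show (h⁻¹ * x * h) ^ i = h⁻¹ * x ^ i * h by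
            simpa using conj_zpow (i := i) (a := h⁻¹) (b := x)] at this
        haveI := (Nat.card_eq_one_iff_unique.mp hFx1).1
        exact congrArg Subtype.val (Subsingleton.elim
          (⟨_, hmem g hgM (by
            rw [mul_assoc, ← Subgroup.mem_centralizer_singleton_iff.mp hg, inv_mul_cancel_left]
            exact hxM)⟩ : Fx)
          ⟨_, hmem u huM (d.mem_two.mp hx2).2⟩)
      have hc2 : c * c ∈ M := by
        by_contra h
        have h1 := (hfix _ (C.mul_mem hc hc) h).trans (hfix c hc hcM).symm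
        rw [QuotientGroup.eq, show (c * c)⁻¹ * c = c⁻¹ by group, inv_mem_iff] at h1
        exact hcM h1
      obtain ⟨j, hj⟩ : Odd (orderOf c) := by
        refine Nat.odd_iff.mpr (Nat.two_dvd_ne_zero.mp fun h => hCodd ?_)
        exact h.trans (Subgroup.orderOf_mk c hc ▸ orderOf_dvd_natCard _)
      refine hcM ?_
      have h2 : (c * c) ^ (j + 1) = c := by
        rw [← pow_two, ← pow_mul, show 2 * (j + 1) = orderOf c + 1 by omega, pow_succ,
          pow_orderOf_eq_one, one_mul]
      exact h2 ▸ M.pow_mem hc2 _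
  let Tx : Sylow p G := Sylow.ofCard X (by rw [Nat.card_zpowers, hx, hGp, pow_one])
  -- every Sylow number of the index is `1` modulo `p`
  have hq1 : ∀ q : ℕ, q ∈ M.index.factorization.support →
      ((q ^ M.index.factorization q : ℕ) : ZMod p) = 1 := by
    intro q hq
    rw [Nat.support_factorization, Nat.mem_primeFactors] at hq
    obtain ⟨hqp, hqn, hn0⟩ := hq
    haveI := Fact.mk hqp
    have hqne : q ≠ p := fun h => hpidx (h ▸ hqn)
    have hqM₁ : ¬ q ∣ Nat.card M := by
      rw [d.card_M]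
      intro h
      rcases hqp.dvd_mul.mp h with h | h
      · exact hqp.not_dvd_one ((Nat.dvd_add_right h).mp (hn ▸ hqn))
      · exact hqne ((Nat.prime_dvd_prime_iff_eq hqp hp.out).mp h)
    obtain ⟨Q⟩ : Nonempty (Sylow q G) := inferInstance
    have hQcard : Nat.card (Q : Subgroup G) = q ^ M.index.factorization q := by
      rw [Q.card_eq_multiplicity, ← Subgroup.card_mul_index M,
        Nat.factorization_mul Nat.card_pos.ne' Subgroup.index_ne_zero_of_finite, Finsupp.add_apply,
        Nat.factorization_eq_zero_of_not_dvd hqM₁, zero_add]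
    obtain ⟨g, hgN, ⟨k, hk⟩, hgC⟩ := d.ctx.exists_pElement_moving Q hqne
      (hqn.trans (Subgroup.index_dvd_card M))
    have hg1 : g ≠ 1 := fun h => hgC (h ▸ Subgroup.one_mem _)
    have hgo : orderOf g = p := by
      obtain ⟨i, -, hi⟩ := (Nat.dvd_prime_pow hp.out).mp (orderOf_dvd_of_pow_eq_one hk)
      have h1 := (hp.out.pow_dvd_iff_le_factorization Nat.card_pos.ne').mp
        (hi ▸ (orderOf_dvd_natCard g))
      rw [hGp] at h1
      rcases i with _ | _ | i
      · rw [pow_zero, orderOf_eq_one_iff] at hi; exact absurd hi hg1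
      · rw [hi, pow_one]
      · omega
    obtain ⟨T', hT'⟩ := (IsPGroup.of_card (n := 1) (by rw [Nat.card_zpowers, hgo, pow_one]) :
      IsPGroup p (Subgroup.zpowers g)).exists_le_sylow
    obtain ⟨a, ha⟩ := MulAction.exists_smul_eq G T' Tx
    have hax : a * g * a⁻¹ ∈ X := by
      have h1 : a * g * a⁻¹ ∈ ((a • T' : Sylow p G) : Subgroup G) :=
        ⟨g, hT' (Subgroup.mem_zpowers g), rfl⟩
      rwa [ha] at h1
    have hgen : Subgroup.zpowers (a * g * a⁻¹) = X := by
      refine Subgroup.eq_of_le_of_card_ge ((Subgroup.zpowers_le).mpr hax) ?_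
      rw [Nat.card_zpowers, Nat.card_zpowers, hx,
        show orderOf (a * g * a⁻¹) = orderOf g from (MulAut.conj a).orderOf_eq g, hgo]
    -- the only fixed point of `g` on `Q` is `1`
    letI : MulAction (Subgroup.zpowers g) (Q : Subgroup G) :=
      { smul := fun w k => ⟨(w : G) * k * (w : G)⁻¹, (Subgroup.mem_normalizer_iff.mp
          ((Subgroup.zpowers_le).mpr hgN w.2) k).mp k.2⟩
        one_smul := fun k => Subtype.ext (show (1 : G) * k * (1 : G)⁻¹ = k by simp)
        mul_smul := fun a b k => Subtype.ext (show ((a : G) * b) * k * ((a : G) * b)⁻¹ =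
          (a : G) * ((b : G) * k * (b : G)⁻¹) * (a : G)⁻¹ by group) }
    have hP : IsPGroup p (Subgroup.zpowers g) :=
      IsPGroup.of_card (n := 1) (by rw [Nat.card_zpowers, hgo, pow_one])
    have h := hP.card_modEq_card_fixedPoints (Q : Subgroup G)
    have hfix : Nat.card (MulAction.fixedPoints (Subgroup.zpowers g) (Q : Subgroup G)) = 1 := by
      refine Nat.card_eq_one_iff_unique.mpr ⟨⟨fun b b' => ?_⟩,
        ⟨⟨1, fun w => Subtype.ext (show (w : G) * 1 * (w : G)⁻¹ = 1 by simp)⟩⟩⟩
      have hone : ∀ b : MulAction.fixedPoints (Subgroup.zpowers g) (Q : Subgroup G), b.1 = 1 := by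
        intro b
        have hgb : g * (b.1 : G) = (b.1 : G) * g := mul_inv_eq_iff_eq_mul.mp
          (congrArg Subtype.val (b.2 ⟨g, Subgroup.mem_zpowers g⟩))
        have hbC : a * (b.1 : G) * a⁻¹ ∈ C := by
          obtain ⟨i, hi⟩ := Subgroup.mem_zpowers_iff.mp (hgen.ge (Subgroup.mem_zpowers x))
          rw [hC, Subgroup.mem_centralizer_singleton_iff, ← hi]
          have h1 : Commute (a * (b.1 : G) * a⁻¹) (a * g * a⁻¹) := by
            show a * (b.1 : G) * a⁻¹ * (a * g * a⁻¹) = a * g * a⁻¹ * (a * (b.1 : G) * a⁻¹)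
            calc _ = a * ((b.1 : G) * g) * a⁻¹ := by group
              _ = a * (g * (b.1 : G)) * a⁻¹ := by rw [hgb]
              _ = _ := by group
          exact (h1.zpow_right i).eq
        have h2 : orderOf (b.1 : G) ∣ p := by
          rw [← (MulAut.conj a).orderOf_eq (b.1 : G)]
          exact hx ▸ orderOf_dvd_of_mem_zpowers (hCX _ hbC)
        have h3 : orderOf (b.1 : G) ∣ q ^ M.index.factorization q := by
          rw [← hQcard, Subgroup.orderOf_coe]; exact orderOf_dvd_natCard _
        exact Subtype.ext (orderOf_eq_one_iff.mp (Nat.eq_one_of_dvd_coprimes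
          (Nat.Coprime.pow_right _ ((Nat.coprime_primes hp.out hqp).mpr hqne.symm)) h2 h3))
      exact Subtype.ext ((hone b).trans (hone b').symm)
    rw [hfix, ← ZMod.natCast_eq_natCast_iff, hQcard] at h
    simpa using h
  have hprod : (M.index : ZMod p) = 1 := by
    conv_lhs => rw [← Nat.factorization_prod_pow_eq_self Subgroup.index_ne_zero_of_finite (n := M.index)]
    rw [Finsupp.prod, Nat.cast_prod]
    exact Finset.prod_eq_one hq1
  rw [hprod] at hn2
  exact one_ne_zero (show (1 : ZMod p) = 0 by linear_combination -hn2)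

end FD

/-- **Solvability**: if all subgroups of order prime to `p` are abelian of exponent dividing
`p - 1`, the group is solvable. -/
theorem isSolvable {p : ℕ} [hp : Fact p.Prime] :
    ∀ (G : Type u) [Group G] [Finite G], PAb p G → Group.IsSolvable G := by
  intro G _ _
  induction hn : Nat.card G using Nat.strong_induction_on generalizing G with
  | _ n ih =>
  intro h
  subst hn
  have hsub : ∀ H : Subgroup G, H ≠ ⊤ → Group.IsSolvable H := fun H hH =>
    ih _ (lt_of_le_of_ne H.card_le_card_group fun e => hH (Subgroup.eq_top_of_card_eq H e)) H rfl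
      (h.subgroup H)
  by_cases hN : ∃ N : Subgroup G, N.Normal ∧ N ≠ ⊥ ∧ N ≠ ⊤
  · obtain ⟨N, hNn, hN0, hNt⟩ := hN
    haveI := hNn
    haveI := hsub N hNt
    by_cases hL : ∃ L : Subgroup G, L ≠ ⊤ ∧ L ⊔ N = ⊤
    · obtain ⟨L, hLt, hLN⟩ := hL
      haveI := hsub L hLt
      haveI : Group.IsSolvable (G ⧸ N) := by
        refine solvable_of_surjective (f := (QuotientGroup.mk' N).comp L.subtype) fun q => ?_
        obtain ⟨g, rfl⟩ := QuotientGroup.mk'_surjective N q
        have hg : g ∈ ((L ⊔ N : Subgroup G) : Set G) := hLN ▸ Subgroup.mem_top g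
        rw [Subgroup.mul_normal] at hg
        obtain ⟨l, hl, m, hm, rfl⟩ := hg
        exact ⟨⟨l, hl⟩, by simpa using hm⟩
      exact H1.isSolvable_of_normal N inferInstance inferInstance
    · push Not at hL
      obtain ⟨P⟩ : Nonempty (Sylow p G) := inferInstance
      by_cases hPN : (P : Subgroup G) ≤ N
      · have hPn : (P : Subgroup G).Normal := by
          rw [← Subgroup.normalizer_eq_top_iff]
          by_contra hne
          exact hL _ hne (Sylow.normalizer_sup_eq_top' P hPN)
        haveI := hPn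
        obtain ⟨H, hH⟩ := Subgroup.exists_right_complement'_of_coprime P.card_coprime_index
        have hHp : (Nat.card H).Coprime p := by
          rw [← hH.symm.index_eq_card]
          exact (hp.out.coprime_iff_not_dvd.mpr P.not_dvd_index).symm
        haveI : IsMulCommutative H := (h H hHp).1
        haveI : Group.IsSolvable H := isSolvable_of_comm fun a b => IsMulCommutative.is_comm.comm a b
        haveI : Group.IsNilpotent (P : Subgroup G) := P.2.isNilpotent
        haveI : Group.IsSolvable (G ⧸ (P : Subgroup G)) :=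
          solvable_of_surjective (f := (hH.symm.QuotientMulEquiv).symm.toMonoidHom)
            (MulEquiv.surjective _)
        exact H1.isSolvable_of_normal (P : Subgroup G) inferInstance inferInstance
      · -- otherwise the hypothesis passes to `G ⧸ N`
        have hq : PAb p (G ⧸ N) := by
          intro Hq hHq
          set Hp := Hq.comap (QuotientGroup.mk' N) with hHp
          have hHt : Hp ≠ ⊤ := by
            intro htop
            refine hPN fun x hx => ?_
            rw [← QuotientGroup.eq_one_iff]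
            have hxH : (QuotientGroup.mk x : G ⧸ N) ∈ Hq := (htop ▸ Subgroup.mem_top x : x ∈ Hp)
            obtain ⟨k, hk⟩ := IsPGroup.iff_orderOf.mp P.2 ⟨x, hx⟩
            rw [Subgroup.orderOf_mk] at hk
            refine orderOf_eq_one_iff.mp (Nat.eq_one_of_dvd_coprimes
              ((hHq.pow_right k) : (Nat.card Hq).Coprime (p ^ k)) ?_
              (hk ▸ orderOf_map_dvd (QuotientGroup.mk' N) x))
            rw [← Subgroup.orderOf_mk _ hxH]
            exact orderOf_dvd_natCard _
          haveI := hsub Hp hHt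
          obtain ⟨L, -, hπ, hπ'⟩ := H1.hall_pi_exists_ge (G := Hp) (fun r => r ≠ p) ⊥
            (fun r hr hd => by rw [Subgroup.card_bot, Nat.dvd_one] at hd; exact absurd hd hr.ne_one)
          have hLc : (Nat.card (L.map Hp.subtype)).Coprime p := by
            rw [Subgroup.card_subtype]
            exact (hp.out.coprime_iff_not_dvd.mpr fun hd => hπ p hp.out hd rfl).symm
          obtain ⟨h1, h2⟩ := h _ hLc
          let g : Hp →* Hq := ((QuotientGroup.mk' N).comp Hp.subtype).codRestrict Hq fun x => x.2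
          have hg : Function.Surjective g := fun z => by
            obtain ⟨x, hx⟩ := QuotientGroup.mk'_surjective N z.1
            exact ⟨⟨x, by rw [hHp, Subgroup.mem_comap, hx]; exact z.2⟩, Subtype.ext hx⟩
          have htop : L.map g = ⊤ := by
            refine Subgroup.index_eq_one.mp ?_
            by_contra h1
            obtain ⟨r, hr, hrd⟩ := Nat.exists_prime_and_dvd h1
            refine hπ' r hr (hrd.trans (Subgroup.index_map_dvd L hg)) fun hrp => ?_
            exact hp.out.coprime_iff_not_dvd.mp hHq.symm (hrp ▸ hrd.trans (Subgroup.index_dvd_card _))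
          have hlift : ∀ z : Hq, ∃ x ∈ L, g x = z := fun z =>
            Subgroup.mem_map.mp (htop ▸ Subgroup.mem_top z)
          refine ⟨⟨⟨fun a b => ?_⟩⟩, fun z hz => ?_⟩
          · obtain ⟨x, hx, rfl⟩ := hlift a
            obtain ⟨y, hy, rfl⟩ := hlift b
            rw [← map_mul, ← map_mul]
            exact congrArg g (Subtype.ext (show (x : G) * y = y * x from congrArg Subtype.val
              (h1.is_comm.comm (⟨(x : G), x, hx, rfl⟩ : L.map Hp.subtype) ⟨(y : G), y, hy, rfl⟩)))
          · obtain ⟨x, hx, hxz⟩ := hlift ⟨z, hz⟩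
            have h3 := congrArg Subtype.val hxz
            change (QuotientGroup.mk (x : G) : G ⧸ N) = z at h3
            rw [← h3, ← QuotientGroup.mk_pow, h2 (x : G) ⟨x, hx, rfl⟩, QuotientGroup.mk_one]
        haveI : Group.IsSolvable (G ⧸ N) := by
          refine ih (Nat.card (G ⧸ N)) ?_ _ rfl hq
          rw [Subgroup.card_eq_card_quotient_mul_card_subgroup N]
          exact lt_mul_of_one_lt_right Nat.card_pos (Subgroup.one_lt_card_iff_ne_bot N |>.mpr hN0)
        exact H1.isSolvable_of_normal N inferInstance inferInstance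
  · push Not at hN
    -- the simple case
    by_contra hns
    have hne : ¬ IsMulCommutative G := fun hc =>
      hns (isSolvable_of_comm fun a b => hc.is_comm.comm a b)
    haveI : Nontrivial G := by
      by_contra hnt
      rw [not_nontrivial_iff_subsingleton] at hnt
      exact hne ⟨⟨fun a b => Subsingleton.elim _ _⟩⟩
    haveI hsimple : IsSimpleGroup G := ⟨fun N hNn => (em (N = ⊥)).imp_right (hN N hNn)⟩
    have hexp : ∀ q : ℕ, q.Prime → q ≠ p → q ∣ Nat.card G → q ∣ p - 1 := by
      intro q hq hqp hqd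
      haveI := Fact.mk hq
      obtain ⟨g, hg⟩ := exists_prime_orderOf_dvd_card' q hqd
      rw [← hg]
      refine orderOf_dvd_of_pow_eq_one ((h (Subgroup.zpowers g) ?_).2 g (Subgroup.mem_zpowers g))
      rw [Nat.card_zpowers, hg]
      exact (Nat.coprime_primes hq hp.out).mpr hqp
    rcases lt_or_ge p 5 with hlt | hge
    · refine hns (H33.isSolvable_of_two_primes Nat.prime_two Nat.prime_three fun r hr hrd => ?_)
      have hp23 : p = 2 ∨ p = 3 := by
        have := hp.out.two_le
        rcases (show p = 2 ∨ p = 3 ∨ p = 4 by omega) with h | h | h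
        · exact Or.inl h
        · exact Or.inr h
        · exact absurd (h ▸ hp.out) (by decide)
      by_cases hrp : r = p
      · rw [hrp]; exact hp23
      have h1 := hexp r hr hrp hrd
      rcases hp23 with h2 | h2 <;> rw [h2] at h1
      · exact absurd (Nat.dvd_one.mp h1) hr.ne_one
      · exact Or.inl ((Nat.prime_dvd_prime_iff_eq hr Nat.prime_two).mp h1)
    · obtain ⟨K, E, M, M₁, d⟩ := exists_FD (⟨hge, h, hsimple, hne, hsub⟩ : Ctx p G)
      exact d.absurd' 

end H72.PrimeAbelian
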