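import Cfsg.Agent.H72.PrimeAbelian.Embedded
import Cfsg.Agent.H6.QdFunctor

/-!
The `p`-core of `M` centralises `Om K`: otherwise `Z(J(P))` makes `M` control transfer.
-/

set_option autoImplicit false
set_option maxRecDepth 4000

open scoped Pointwise commutatorElement

namespace H72.PrimeAbelian

universe u

variable {p : ℕ} [hp : Fact p.Prime] {G : Type u} [Group G] [Finite G]

/-- The diagonal matrices in `Qd(p)`. -/
def qdDiag (p : ℕ) : (ZMod p)ˣ →* Matrix.SpecialLinearGroup (Fin 3) (ZMod p) where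
  toFun t := ⟨!![(t : ZMod p), 0, 0; 0, ((t⁻¹ : (ZMod p)ˣ) : ZMod p), 0; 0, 0, 1], by
    simp [Matrix.det_fin_three]⟩
  map_one' := by
    apply Subtype.ext
    ext i j; fin_cases i <;> fin_cases j <;> simp
  map_mul' a b := by
    apply Subtype.ext
    show (!![((a * b : (ZMod p)ˣ) : ZMod p), 0, 0; 0, (((a * b)⁻¹ : (ZMod p)ˣ) : ZMod p), 0; 0, 0, 1] :
      Matrix (Fin 3) (Fin 3) (ZMod p)) =
      !![(a : ZMod p), 0, 0; 0, ((a⁻¹ : (ZMod p)ˣ) : ZMod p), 0; 0, 0, 1] *
        !![(b : ZMod p), 0, 0; 0, ((b⁻¹ : (ZMod p)ˣ) : ZMod p), 0; 0, 0, 1]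
    ext i j
    fin_cases i <;> fin_cases j <;> simp [Matrix.mul_apply, Fin.sum_univ_three, mul_comm]

/-- `Qd(p)`, `p ≥ 5`, has a nonabelian subgroup of order prime to `p`. -/
theorem qd_exists_pair (h5 : 5 ≤ p) :
    ∃ H : Subgroup ↥(Cfsg.qd p), (Nat.card H).Coprime p ∧
      ∃ a ∈ H, ∃ b ∈ H, a * b ≠ b * a := by
  let A : Matrix.SpecialLinearGroup (Fin 3) (ZMod p) :=
    ⟨!![0, 1, 0; -1, 0, 0; 0, 0, 1], by simp [Matrix.det_fin_three]⟩
  have hA : A ∈ Cfsg.qd p := Subgroup.subset_closure ⟨rfl, rfl, rfl⟩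
  have hD : ∀ t, qdDiag p t ∈ Cfsg.qd p := fun t =>
    Subgroup.subset_closure ⟨rfl, rfl, rfl⟩
  have h2 : (2 : ZMod p) ≠ 0 := by
    intro h
    have h' : ((2 : ℕ) : ZMod p) = 0 := by exact_mod_cast h
    have := Nat.le_of_dvd two_pos ((ZMod.natCast_eq_zero_iff 2 p).mp h')
    omega
  let t : (ZMod p)ˣ := Units.mk0 2 h2
  let a : ↥(Cfsg.qd p) := ⟨A, hA⟩
  let b : ↥(Cfsg.qd p) := ⟨qdDiag p t, hD t⟩
  have hA4 : a ^ 4 = 1 := by
    apply Subtype.ext
    show A ^ 4 = 1
    apply Subtype.ext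
    rw [Matrix.SpecialLinearGroup.coe_pow, Matrix.SpecialLinearGroup.coe_one]
    show (!![0, 1, 0; -1, 0, 0; 0, 0, 1] : Matrix (Fin 3) (Fin 3) (ZMod p)) ^ 4 = 1
    rw [show (4 : ℕ) = 2 + 2 from rfl, pow_add, pow_two]
    ext i j
    fin_cases i <;> fin_cases j <;> simp [Matrix.mul_apply, Fin.sum_univ_three]
  have hab : ∀ s : (ZMod p)ˣ, A * qdDiag p s = qdDiag p s⁻¹ * A := by
    intro s
    apply Subtype.ext
    show (!![0, 1, 0; -1, 0, 0; 0, 0, 1] : Matrix (Fin 3) (Fin 3) (ZMod p)) *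
        !![(s : ZMod p), 0, 0; 0, ((s⁻¹ : (ZMod p)ˣ) : ZMod p), 0; 0, 0, 1] =
      !![((s⁻¹ : (ZMod p)ˣ) : ZMod p), 0, 0; 0, (((s⁻¹)⁻¹ : (ZMod p)ˣ) : ZMod p), 0; 0, 0, 1] *
        !![0, 1, 0; -1, 0, 0; 0, 0, 1]
    rw [inv_inv]
    generalize ((s : (ZMod p)ˣ) : ZMod p) = x
    generalize ((s⁻¹ : (ZMod p)ˣ) : ZMod p) = y
    ext i j
    fin_cases i <;> fin_cases j <;> simp [Matrix.mul_apply, Fin.sum_univ_three]
  have hne : a * b ≠ b * a := by
    intro h
    have h1 : A * qdDiag p t = qdDiag p t * A := congrArg Subtype.val h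
    rw [hab t] at h1
    have h3 := congrArg (fun M : Matrix.SpecialLinearGroup (Fin 3) (ZMod p) => M.1 0 0)
      (mul_right_cancel h1)
    change (((t⁻¹ : (ZMod p)ˣ) : ZMod p)) = (t : ZMod p) at h3
    rw [Units.val_inv_eq_inv_val] at h3
    have h4 : ((2 : ZMod p))⁻¹ = 2 := h3
    have h6 : (2 : ZMod p) * 2 = 1 := by
      calc (2 : ZMod p) * 2 = 2⁻¹ * 2 := by rw [h4]
        _ = 1 := inv_mul_cancel₀ h2
    have h7 : ((3 : ℕ) : ZMod p) = 0 := by push_cast; linear_combination h6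
    have := Nat.le_of_dvd (by norm_num) ((ZMod.natCast_eq_zero_iff 3 p).mp h7)
    omega
  have hb : b ^ (p - 1) = 1 := by
    apply Subtype.ext
    show qdDiag p t ^ (p - 1) = 1
    rw [← map_pow, ZMod.units_pow_card_sub_one_eq_one, map_one]
  refine ⟨Subgroup.zpowers a ⊔ Subgroup.zpowers b, ?_, a,
    Subgroup.mem_sup_left (Subgroup.mem_zpowers a), b,
    Subgroup.mem_sup_right (Subgroup.mem_zpowers b), hne⟩
  refine (hp.out.coprime_iff_not_dvd.mpr (Cfsg.Comp.not_dvd_card_sup ?_ ?_ ?_)).symm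
  · refine (Subgroup.zpowers_le).mpr (Cfsg.Comp.mem_normalizer_of_map_conj_eq ?_)
    rw [MonoidHom.map_zpowers]
    have : (MulAut.conj a).toMonoidHom b = b⁻¹ := by
      apply Subtype.ext
      show A * qdDiag p t * A⁻¹ = (qdDiag p t)⁻¹
      rw [hab, mul_inv_cancel_right, map_inv]
    rw [this, Subgroup.zpowers_inv]
  · rw [Nat.card_zpowers]
    intro h
    have := Nat.le_of_dvd (by norm_num) (h.trans (orderOf_dvd_of_pow_eq_one hA4))
    omega
  · rw [Nat.card_zpowers]
    intro h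
    have := Nat.le_of_dvd (by omega) (h.trans (orderOf_dvd_of_pow_eq_one hb))
    omega

/-- No section of `G` is isomorphic to `Qd(p)`. -/
theorem Ctx.qdFree (c : Ctx p G) : ¬ Cfsg.Involves ↥(Cfsg.qd p) G := by
  rintro ⟨K, R, hn, ⟨e⟩⟩
  haveI := hn
  obtain ⟨H, hH, a, ha, b, hb, hne⟩ := qd_exists_pair (p := p) c.five
  set f : K →* ↥(Cfsg.qd p) := e.toMonoidHom.comp (QuotientGroup.mk' (R.subgroupOf K)) with hf
  have hfs : Function.Surjective f := e.surjective.comp (QuotientGroup.mk'_surjective _)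
  set L := (H.comap f).map K.subtype with hL
  -- `L` contains a subgroup of order prime to `p` covering `H`
  obtain ⟨L₀, hL0, hcov⟩ : ∃ L₀ : Subgroup (H.comap f), (Nat.card L₀).Coprime p ∧
      ∀ y ∈ H, ∃ x ∈ L₀, f (x : K) = y := by
    by_cases hT : L = ⊤
    · have hK : K = ⊤ := top_le_iff.mp (hT ▸ Subgroup.map_subtype_le _)
      subst hK
      have hR : R.Normal := ⟨fun x hx g =>
        Subgroup.mem_subgroupOf.mp (hn.conj_mem ⟨x, trivial⟩ (Subgroup.mem_subgroupOf.mpr hx) ⟨g, trivial⟩)⟩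
      haveI := c.simple
      rcases hR.eq_bot_or_eq_top with h | h
      · refine ⟨⊤, ?_, fun y hy => ?_⟩
        · rw [Subgroup.card_top]
          have hinj : Function.Injective (fun x : H.comap f => (⟨f x, x.2⟩ : H)) := by
            intro x y hxy
            have h1 : f x = f y := congrArg Subtype.val hxy
            have h2 := QuotientGroup.eq.mp (e.injective h1)
            rw [h, Subgroup.bot_subgroupOf, Subgroup.mem_bot, inv_mul_eq_one] at h2
            exact Subtype.ext h2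
          have hsurj : Function.Surjective (fun x : H.comap f => (⟨f x, x.2⟩ : H)) := by
            rintro ⟨y, hy⟩
            obtain ⟨x, hx⟩ := hfs y
            exact ⟨⟨x, by rw [Subgroup.mem_comap, hx]; exact hy⟩, Subtype.ext hx⟩
          rwa [Nat.card_congr (Equiv.ofBijective _ ⟨hinj, hsurj⟩)]
        · obtain ⟨x, hx⟩ := hfs y
          exact ⟨⟨x, by rw [Subgroup.mem_comap, hx]; exact hy⟩, trivial, hx⟩
      · exfalso
        apply hne
        obtain ⟨x, hx⟩ := hfs a
        have : a = 1 := by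
          rw [← hx, hf]
          show e (QuotientGroup.mk x) = 1
          have hxR : (x : G) ∈ R := by rw [h]; exact Subgroup.mem_top _
          rw [(QuotientGroup.eq_one_iff x).mpr (Subgroup.mem_subgroupOf.mpr hxR), map_one]
        rw [this, one_mul, mul_one]
    · haveI := c.proper L hT
      haveI : Group.IsSolvable (H.comap f) :=
        solvable_of_surjective (f := ((H.comap f).equivMapOfInjective K.subtype
          K.subtype_injective).symm.toMonoidHom) (MulEquiv.surjective _)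
      obtain ⟨L₀, -, hπ, hπ'⟩ := H1.hall_pi_exists_ge (G := H.comap f) (fun r => r ≠ p) ⊥
        (fun r hr hd => by rw [Subgroup.card_bot, Nat.dvd_one] at hd; exact absurd hd hr.ne_one)
      refine ⟨L₀, (hp.out.coprime_iff_not_dvd.mpr fun hd => hπ p hp.out hd rfl).symm, fun y hy => ?_⟩
      let g : H.comap f →* H := (f.comp (H.comap f).subtype).codRestrict H fun x => x.2
      have hg : Function.Surjective g := fun z => by
        obtain ⟨x, hx⟩ := hfs z.1
        exact ⟨⟨x, by rw [Subgroup.mem_comap, hx]; exact z.2⟩, Subtype.ext hx⟩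
      have htop : L₀.map g = ⊤ := by
        refine Subgroup.index_eq_one.mp ?_
        by_contra h1
        obtain ⟨r, hr, hrd⟩ := Nat.exists_prime_and_dvd h1
        have hr1 : r ∣ L₀.index := hrd.trans (Subgroup.index_map_dvd L₀ hg)
        have hr2 : r ∣ Nat.card H := hrd.trans (Subgroup.index_dvd_card _)
        refine hπ' r hr hr1 fun hrp => ?_
        exact hp.out.coprime_iff_not_dvd.mp hH.symm (hrp ▸ hr2)
      obtain ⟨x, hx, hxy⟩ := (htop ▸ Subgroup.mem_top (⟨y, hy⟩ : H) : (⟨y, hy⟩ : H) ∈ L₀.map g)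
      exact ⟨x, hx, congrArg Subtype.val hxy⟩
  obtain ⟨x, hx, hfx⟩ := hcov a ha
  obtain ⟨y, hy, hfy⟩ := hcov b hb
  refine hne ?_
  have h1 : ((x : K) : G) * (y : K) = (y : K) * (x : K) :=
    c.comm_of_coprime (A := (L₀.map (H.comap f).subtype).map K.subtype)
      (by rw [Subgroup.card_subtype, Subgroup.card_subtype]; exact hL0)
      ⟨_, ⟨x, hx, rfl⟩, rfl⟩ ⟨_, ⟨y, hy, rfl⟩, rfl⟩
  rw [← hfx, ← hfy, ← map_mul, ← map_mul]
  exact congrArg f (Subtype.ext h1)

namespace MD

variable {S : Sylow 2 G} {K R M : Subgroup G} (m : MD p S K R M)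
include m

/-- A proper subgroup containing two commuting involutions of `M` lies in `M`. -/
theorem le_of_four {Y : Subgroup G} (hY : Y ≠ ⊤) {a b : G} (ha : orderOf a = 2) (hb : orderOf b = 2)
    (haY : a ∈ Y) (hbY : b ∈ Y) (haM : a ∈ M) (hbM : b ∈ M) (hab : a * b = b * a) (hne : a ≠ b) :
    Y ≤ M := by
  haveI : Group.IsSolvable Y := m.kd.ctx.proper Y hY
  have ha2 : a * a = 1 := by rw [← pow_two, ← ha, pow_orderOf_eq_one]
  have hb2 : b * b = 1 := by rw [← pow_two, ← hb, pow_orderOf_eq_one]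
  set V := Subgroup.closure ({a, b} : Set G) with hV
  have hVc : IsMulCommutative V := by
    refine Subgroup.isMulCommutative_closure ?_
    rintro x (rfl | rfl) y (rfl | rfl) <;> first | rfl | exact hab | exact hab.symm
  have hVcomm : ∀ x ∈ V, ∀ y ∈ V, x * y = y * x := fun x hx y hy =>
    congrArg Subtype.val (hVc.is_comm.comm ⟨x, hx⟩ ⟨y, hy⟩)
  have hV2 : ∀ x ∈ V, x * x = 1 := by
    intro x hx
    induction hx using Subgroup.closure_induction with
    | mem x hx => rcases hx with rfl | rfl <;> assumption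
    | one => exact one_mul 1
    | mul x y hx hy h1 h2 =>
      calc x * y * (x * y) = x * (y * x) * y := by group
        _ = x * (x * y) * y := by rw [hVcomm y hy x hx]
        _ = x * x * (y * y) := by group
        _ = 1 := by rw [h1, h2, one_mul]
    | inv x _ h1 => rw [← mul_inv_rev, h1, inv_one]
  have hVp : IsPGroup 2 V := fun x => ⟨1, Subtype.ext (by
    rw [pow_one]; show ((x : G)) ^ 2 = 1; rw [pow_two]; exact hV2 x x.2)⟩
  have hVY : V ≤ Y := (Subgroup.closure_le Y).mpr (by rintro x (rfl | rfl) <;> assumption)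
  have hVM : V ≤ M := (Subgroup.closure_le M).mpr (by rintro x (rfl | rfl) <;> assumption)
  haveI hOc : (Cfsg.pPrimeCore 2 Y).Characteristic := H1.pPrimeCore_characteristic 2 Y
  haveI := H1.pPrimeCore_normal' 2 Y
  set Oc := Cfsg.pPrimeCore 2 Y with hOcd
  set O := Oc.map Y.subtype with hO
  have hOodd : Odd (Nat.card O) := by
    rw [hO, Subgroup.card_subtype]
    exact Nat.odd_iff.mpr (Nat.two_dvd_ne_zero.mp
      (Nat.prime_two.coprime_iff_not_dvd.mp (H1.card_pPrimeCore_coprime 2 Y).symm))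
  have hOM : O ≤ M := by
    refine H2.FixedGen.le_of_fixed_cycQ hVcomm hVp O ⊥ hOodd ?_ bot_le ?_ ?_
    · exact hVY.trans (Subgroup.le_normalizer.trans (Cfsg.Comp.le_normalizer_map_subtype Oc))
    · intro x _ y hy; rw [Subgroup.mem_bot.mp hy]; simp
    · rintro V' ⟨hV'V, g, hg, hgen⟩ x ⟨-, hx⟩
      by_cases hV' : V' = ⊥
      · exfalso
        have hgg : ∀ z ∈ V, z = 1 ∨ z = g := by
          intro z hz
          obtain ⟨i, hi⟩ := hgen z hz
          rw [hV', Subgroup.mem_bot, inv_mul_eq_one] at hi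
          have hg2 : g ^ (2 : ℤ) = 1 := by rw [zpow_two, hV2 g hg]
          rcases Int.even_or_odd i with ⟨l, hl⟩ | ⟨l, hl⟩
          · left; rw [← hi, hl, ← two_mul, zpow_mul, hg2, one_zpow]
          · right; rw [← hi, hl, zpow_add, zpow_mul, hg2, one_zpow, one_mul, zpow_one]
        rcases hgg a (Subgroup.subset_closure (by simp)) with h | h
        · rw [h, orderOf_one] at ha; omega
        rcases hgg b (Subgroup.subset_closure (by simp)) with h' | h'
        · rw [h', orderOf_one] at hb; omega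
        exact hne (h.trans h'.symm)
      · obtain ⟨⟨v, hv⟩, hv1⟩ := Subgroup.ne_bot_iff_exists_ne_one.mp hV'
        have hv' : v ≠ 1 := fun h => hv1 (Subtype.ext h)
        refine m.centralizer_involution_le (orderOf_eq_prime (by rw [pow_two, hV2 v (hV'V hv)]) hv')
          (hVM (hV'V hv)) ?_
        exact Subgroup.mem_centralizer_singleton_iff.mpr (hx v hv).symm
  -- a normal subgroup of even order inside `M`
  obtain ⟨P, hP⟩ := (hVp.of_equiv (Subgroup.subgroupOfEquivOfLe hVY).symm).exists_le_sylow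
  have hPM : (P : Subgroup Y).map Y.subtype ≤ M := by
    obtain ⟨Q, hQ⟩ := (P.2.map Y.subtype).exists_le_sylow
    obtain ⟨g, hg⟩ := MulAction.exists_smul_eq G Q S
    intro x hx
    refine m.centralizer_involution_le ha haM (Subgroup.mem_centralizer_singleton_iff.mpr ?_)
    have haP : a ∈ (P : Subgroup Y).map Y.subtype :=
      ⟨⟨a, haY⟩, hP (Subgroup.mem_subgroupOf.mpr (Subgroup.subset_closure (by simp))), rfl⟩
    have h1 : ∀ z ∈ (P : Subgroup Y).map Y.subtype, g * z * g⁻¹ ∈ K := fun z hz =>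
      m.kd.le (hg ▸ ⟨z, hQ hz, rfl⟩)
    have h2 := m.kd.comm (h1 x hx) (h1 a haP)
    have h3 : g * (x * a) * g⁻¹ = g * (a * x) * g⁻¹ := by
      calc g * (x * a) * g⁻¹ = g * x * g⁻¹ * (g * a * g⁻¹) := by group
        _ = g * a * g⁻¹ * (g * x * g⁻¹) := h2
        _ = _ := by group
    exact mul_left_cancel (mul_right_cancel h3)
  set T := Cfsg.pCore 2 (Y ⧸ Oc) with hT
  haveI hTn : T.Normal := H1.pCore_normal' 2 _
  have hnt : Nontrivial (Y ⧸ Oc) := by
    refine QuotientGroup.nontrivial_iff.mpr fun h => ?_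
    have h1 : a ∈ O := ⟨⟨a, haY⟩, h ▸ Subgroup.mem_top _, rfl⟩
    have h2 : orderOf a ∣ Nat.card O := by
      rw [← Subgroup.orderOf_mk a h1]; exact orderOf_dvd_natCard _
    rw [ha] at h2
    exact (Nat.not_even_iff_odd.mpr hOodd) (even_iff_two_dvd.mpr h2)
  have hTne : T ≠ ⊥ := by
    rcases H10.pCore_or_pPrimeCore_ne_bot (p := 2) (H10.isPSolvable_of_isSolvable (G := Y ⧸ Oc)) with
      h | h
    · exact h
    · exact absurd H10.pPrimeCore_quotient_pPrimeCore h
  set Tc := T.comap (QuotientGroup.mk' Oc) with hTc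
  have hTM : Tc.map Y.subtype ≤ M := by
    have h1 : Tc ≤ (P : Subgroup Y) ⊔ Oc := by
      have h2 : T ≤ (P : Subgroup Y).map (QuotientGroup.mk' Oc) := by
        have := (H1.isPGroup_pCore 2 (Y ⧸ Oc)).le_sylow_of_normal
          (P.mapSurjective (QuotientGroup.mk'_surjective Oc))
        simpa using this
      calc Tc ≤ ((P : Subgroup Y).map (QuotientGroup.mk' Oc)).comap (QuotientGroup.mk' Oc) :=
            Subgroup.comap_mono h2
        _ = _ := by rw [Subgroup.comap_map_eq, QuotientGroup.ker_mk']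
    exact (Subgroup.map_mono h1).trans (by rw [Subgroup.map_sup]; exact sup_le hPM hOM)
  have hTeven : 2 ∣ Nat.card Tc := by
    haveI : Nontrivial T := (Subgroup.nontrivial_iff_ne_bot T).mpr hTne
    obtain ⟨n, hn, hcard⟩ := (H1.isPGroup_pCore 2 (Y ⧸ Oc)).nontrivial_iff_card.mp ‹_›
    have h1 : Nat.card T ∣ Nat.card Tc := by
      refine Subgroup.card_dvd_of_surjective
        (((QuotientGroup.mk' Oc).comp Tc.subtype).codRestrict T fun x => x.2) fun z => ?_
      obtain ⟨x, hx⟩ := QuotientGroup.mk'_surjective Oc z.1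
      exact ⟨⟨x, by rw [hTc, Subgroup.mem_comap, hx]; exact z.2⟩, Subtype.ext hx⟩
    exact (hcard ▸ dvd_pow_self 2 hn.ne').trans h1
  obtain ⟨⟨t, ht⟩, htord⟩ := exists_prime_orderOf_dvd_card' 2 hTeven
  have htG : orderOf (t : G) = 2 := by
    rw [← htord, ← Subgroup.orderOf_coe, ← Subgroup.orderOf_coe]
  intro y hy
  refine m.mem_of_conj htG (hTM ⟨t, ht, rfl⟩) (hTM ⟨⟨y, hy⟩ * t * ⟨y, hy⟩⁻¹, ?_, rfl⟩)
  exact (Subgroup.Normal.comap hTn _).conj_mem t ht _

/-- `R` centralises `Om K`. -/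
theorem R_centralizes : R ≤ Subgroup.centralizer (Om K : Set G) := by
  by_contra hnc
  have h0 : ∀ e ∈ Om K, e ≠ 1 → e ∉ Subgroup.centralizer (R : Set G) := by
    intro e he he1 hc
    refine hnc fun r hr e' he' => ?_
    by_cases he1' : e' = 1
    · simp [he1']
    obtain ⟨n, hn, rfl⟩ := m.transitive he he1 he' he1'
    have hr' : n⁻¹ * r * n ∈ R := by
      simpa using (Subgroup.mem_normalizer_iff.mp
        (m.normalizer_le_normalizer ((Subgroup.normalizer (K : Set G)).inv_mem hn)) r).mp hr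
    have h1 := hc _ hr'
    calc n * e * n⁻¹ * r = n * (e * (n⁻¹ * r * n)) * n⁻¹ := by group
      _ = n * (n⁻¹ * r * n * e) * n⁻¹ := by rw [h1]
      _ = r * (n * e * n⁻¹) := by group
  have hRne : R ≠ ⊥ := by
    intro h
    refine hnc (h ▸ bot_le)
  set R' := R.subgroupOf M with hR'
  haveI hR'n : R'.Normal :=
    (Subgroup.normal_subgroupOf_iff_le_normalizer m.R_le).mpr m.le_normalizer_R
  set C := Subgroup.centralizer (R' : Set M) with hC
  have hCodd : ¬ 2 ∣ Nat.card C := by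
    intro h
    obtain ⟨⟨⟨t, htM⟩, htC⟩, ht⟩ := exists_prime_orderOf_dvd_card' 2 h
    rw [Subgroup.orderOf_mk, Subgroup.orderOf_mk] at ht
    obtain ⟨g, hg, hgt⟩ := m.exists_conj_om ht htM
    have h1 : g * t * g⁻¹ ≠ 1 := fun h1 => by simp [conj_eq_one_iff.mp h1] at ht
    refine h0 _ hgt h1 fun r hr => ?_
    have h2 : (⟨g, hg⟩ : M) * ⟨t, htM⟩ * (⟨g, hg⟩ : M)⁻¹ ∈ C :=
      (inferInstance : C.Normal).conj_mem _ htC _
    exact congrArg Subtype.val (h2 ⟨r, m.R_le hr⟩ (Subgroup.mem_subgroupOf.mpr hr))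
  have hqd : ¬ Cfsg.Involves ↥(Cfsg.qd p) M := fun h => m.kd.ctx.qdFree (H6.Involves.of_subgroup M h)
  obtain ⟨P⟩ : Nonempty (Sylow p M) := inferInstance
  have hR'P : R' ≤ (P : Subgroup M) :=
    (m.isP.of_equiv (Subgroup.subgroupOfEquivOfLe m.R_le).symm).le_sylow_of_normal P
  set Z := Cfsg.centerThompsonAOf (P : Subgroup M) with hZ
  set N := Subgroup.normalizer (Z : Set M) with hN
  have hctl := H6.controlsStrongFusionOf_zj (G := M) m.kd.ctx.two_ne true hqd P (P : Subgroup M)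
    ⟨le_rfl, fun _ _ _ h => h⟩ (R' : Set M) hR'P
  rw [H79.ZJ_true] at hctl
  have hNC : N ⊔ C = ⊤ := by
    refine top_le_iff.mp fun g _ => ?_
    obtain ⟨x, hx, hxg⟩ := hctl.2 g (by
      rintro _ ⟨r, hr, rfl⟩
      exact hR'P (hR'n.conj_mem r hr g))
    have : x⁻¹ * g ∈ C := fun r hr => by
      calc r * (x⁻¹ * g) = x⁻¹ * (x * r * x⁻¹) * g := by group
        _ = x⁻¹ * (g * r * g⁻¹) * g := by rw [hxg r hr]
        _ = x⁻¹ * g * r := by group
    rw [show g = x * (x⁻¹ * g) by group]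
    exact Subgroup.mul_mem_sup hx this
  have hNindex : ¬ 2 ∣ N.index := by
    have h1 : N.relIndex C = N.index := by
      have h2 : C.relIndex (N ⊔ C) = C.relIndex N := Subgroup.relIndex_sup_right _ _
      rw [hNC, Subgroup.relIndex_top_right] at h2
      have h3 := Subgroup.card_mul_index C
      have h4 : Nat.card ↥(C ⊓ N) * C.relIndex N = Nat.card N := by
        rw [← Subgroup.inf_relIndex_right C N, ← Subgroup.relIndex_bot_left, ← Subgroup.relIndex_bot_left,
          Subgroup.relIndex_mul_relIndex _ _ _ bot_le inf_le_right]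
      have h5 : Nat.card ↥(C ⊓ N) * N.relIndex C = Nat.card C := by
        rw [inf_comm C N, ← Subgroup.inf_relIndex_right N C, ← Subgroup.relIndex_bot_left,
          ← Subgroup.relIndex_bot_left, Subgroup.relIndex_mul_relIndex _ _ _ bot_le inf_le_right]
      have h6 := Subgroup.card_mul_index N
      rw [← h3, ← h4, ← h5, ← h2] at h6
      have hpos : 0 < Nat.card ↥(C ⊓ N) * C.index :=
        Nat.mul_pos Nat.card_pos (Nat.pos_of_ne_zero Subgroup.index_ne_zero_of_finite)
      exact (Nat.eq_of_mul_eq_mul_left hpos (by rw [h6]; ring)).symm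
    intro h
    refine hCodd ((h1 ▸ h).trans ?_)
    exact Subgroup.relIndex_dvd_card N C
  -- a conjugate of `Om K` lies in `N`
  obtain ⟨Q⟩ : Nonempty (Sylow 2 N) := inferInstance
  have hQc : ∃ g : M, ∀ x : G, (hx : x ∈ (S : Subgroup G)) → g * ⟨x, m.sylow_le hx⟩ * g⁻¹ ∈ N := by
    let Q' : Sylow 2 M := Sylow.ofCard ((Q : Subgroup N).map N.subtype) (by
      rw [Subgroup.card_subtype, Q.card_eq_multiplicity, ← Subgroup.card_mul_index N,
        Nat.factorization_mul Nat.card_pos.ne' Subgroup.index_ne_zero_of_finite, Finsupp.add_apply,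
        Nat.factorization_eq_zero_of_not_dvd hNindex, add_zero])
    obtain ⟨g, hg⟩ := MulAction.exists_smul_eq M (S.subtype m.sylow_le) Q'
    refine ⟨g, fun x hx => ?_⟩
    have h1 : g * ⟨x, m.sylow_le hx⟩ * g⁻¹ ∈ ((g • S.subtype m.sylow_le : Sylow 2 M) : Subgroup M) := by
      rw [Sylow.coe_subgroup_smul]
      exact ⟨⟨x, m.sylow_le hx⟩, hx, rfl⟩
    rw [hg] at h1
    exact Subgroup.map_subtype_le _ h1
  obtain ⟨g, hg⟩ := hQc
  obtain ⟨a, ha, haO⟩ := m.exists_involution_mem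
  obtain ⟨b, hbO, hb1, hba⟩ : ∃ b ∈ Om K, b ≠ 1 ∧ b ≠ a := by
    by_contra hcon
    push Not at hcon
    have : Nat.card (Om K) ≤ 2 := by
      calc Nat.card (Om K) ≤ Nat.card ({1, a} : Set G) :=
            Nat.card_mono (Set.toFinite _) fun x hx => by
              by_cases h : x = 1
              · simp [h]
              · simp [hcon x hx h]
        _ ≤ 2 := by
            rw [Nat.card_coe_set_eq]
            exact (Set.ncard_insert_le _ _).trans (by simp)
    have := m.kd.eight_le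
    omega
  have hb : orderOf b = 2 := orderOf_eq_prime (by rw [pow_two]; exact (m.kd.mem_om.mp hbO).2) hb1
  set PG := (P : Subgroup M).map M.subtype with hPG
  set ZG := Cfsg.centerThompsonAOf PG with hZG
  have hZmap : Z.map M.subtype = ZG :=
    H11.map_centerThompsonAOf M.subtype _ fun x _ h => Subtype.ext h
  have hPne : (P : Subgroup M) ≠ ⊥ := by
    intro h
    rw [h, le_bot_iff, hR', Subgroup.subgroupOf_eq_bot, disjoint_iff] at hR'P
    exact hRne (by rw [← inf_eq_left.mpr m.R_le, hR'P])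
  have hZne : ZG ≠ ⊥ := by
    rw [← hZmap, Ne, Subgroup.map_eq_bot_iff_of_injective _ M.subtype_injective]
    exact H11.centerThompsonAOf_ne_bot P.2 hPne
  set Y := Subgroup.normalizer (ZG : Set G) with hY
  have hYt : Y ≠ ⊤ := m.kd.ctx.normalizer_ne_top hZne
    (m.kd.ctx.pgroup_ne_top ((P.2.map _).to_le (H11.centerThompsonAOf_le PG)))
  have hNY : N.map M.subtype ≤ Y := by
    rw [hY, ← hZmap]; exact Subgroup.le_normalizer_map _
  have hYM : Y ≤ M := by
    refine m.le_of_four hYt (a := g * a * (g : G)⁻¹) (b := g * b * (g : G)⁻¹)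
      (((MulAut.conj (g : G)).orderOf_eq a).trans ha) (((MulAut.conj (g : G)).orderOf_eq b).trans hb)
      (hNY ⟨_, hg a (m.kd.om_le_sylow haO), rfl⟩) (hNY ⟨_, hg b (m.kd.om_le_sylow hbO), rfl⟩)
      (mul_mem (mul_mem g.2 (m.om_le haO)) (inv_mem g.2))
      (mul_mem (mul_mem g.2 (m.om_le hbO)) (inv_mem g.2)) ?_ ?_
    · calc (g : G) * a * (g : G)⁻¹ * (g * b * (g : G)⁻¹) = g * (a * b) * (g : G)⁻¹ := by group
        _ = g * (b * a) * (g : G)⁻¹ := by rw [m.kd.om_commutative haO hbO]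
        _ = _ := by group
    · intro h
      exact hba (mul_left_cancel (mul_right_cancel h)).symm
  -- `PG` is a Sylow subgroup of `G`
  obtain ⟨T, hT⟩ := (P.2.map M.subtype).exists_le_sylow
  have hPT : PG = (T : Subgroup G) := by
    rcases hT.eq_or_lt with h | h
    · exact h
    exfalso
    haveI : Group.IsNilpotent (T : Subgroup G) := T.2.isNilpotent
    have h1 : PG.subgroupOf (T : Subgroup G) < ⊤ :=
      lt_top_iff_ne_top.mpr fun h' => h.not_ge (Subgroup.subgroupOf_eq_top.mp h')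
    obtain ⟨x, hx, hxP⟩ := SetLike.exists_of_lt (normalizerCondition_of_isNilpotent _ h1)
    have hxN : (x : G) ∈ Subgroup.normalizer (PG : Set G) := by
      refine Cfsg.Comp.mem_normalizer_of_map_conj_eq ?_
      refine Subgroup.eq_of_le_of_card_ge ?_ (Subgroup.card_map_of_injective
        (MulAut.conj (x : G)).injective).ge
      rintro _ ⟨y, hy, rfl⟩
      exact (Subgroup.mem_normalizer_iff.mp hx ⟨y, hT hy⟩).mp hy
    have hxM : (x : G) ∈ M := hYM (H11.normalizer_le_normalizer_centerThompsonAOf PG hxN)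
    have hlt : (P : Subgroup M) < ((T : Subgroup G) ⊓ M).subgroupOf M := by
      refine SetLike.lt_iff_le_and_exists.mpr
        ⟨fun y hy => Subgroup.mem_subgroupOf.mpr (Subgroup.mem_inf.mpr ⟨hT ⟨y, hy, rfl⟩, y.2⟩),
        ⟨x, hxM⟩, Subgroup.mem_subgroupOf.mpr (Subgroup.mem_inf.mpr ⟨x.2, hxM⟩),
        fun hc => hxP (Subgroup.mem_subgroupOf.mpr ⟨_, hc, rfl⟩)⟩
    exact hlt.ne (P.is_maximal'
      ((T.2.to_le inf_le_left).of_equiv (Subgroup.subgroupOfEquivOfLe inf_le_right).symm) hlt.le).symm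
  -- transfer
  have hctlG := fun x (hx : x ∈ (T : Subgroup G)) => H6.controlsStrongFusionOf_zj (G := G)
    m.kd.ctx.two_ne true m.kd.ctx.qdFree T (T : Subgroup G) ⟨le_rfl, fun _ _ _ h => h⟩ ({x} : Set G)
    (Set.singleton_subset_iff.mpr hx)
  have hTY : (T : Subgroup G) ≤ Y := by
    rw [hY, hZG, hPT]
    exact Subgroup.le_normalizer.trans (H11.normalizer_le_normalizer_centerThompsonAOf _)
  have hfoc := H5.commutator_inf_eq_of_control (H := (T : Subgroup G)) T.card_coprime_index hTY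
    (fun x hx z hz => by
      obtain ⟨k, hk, hk'⟩ := (hctlG x hx).2 z (by rintro _ ⟨y, rfl, rfl⟩; exact hz)
      rw [H79.ZJ_true, ← hPT, ← hZG, ← hY] at hk
      exact ⟨k, hk, (hk' x rfl).symm⟩)
  have hperf : commutator G = ⊤ := by
    haveI := m.kd.ctx.simple
    rcases (inferInstance : (commutator G).Normal).eq_bot_or_eq_top with h | h
    · exact absurd (⟨⟨fun a b => commutatorElement_eq_one_iff_mul_comm.mp
        (Subgroup.mem_bot.mp (h ▸ Subgroup.commutator_mem_commutator (Subgroup.mem_top a)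
          (Subgroup.mem_top b)))⟩⟩) m.kd.ctx.nonab
    · exact h
  rw [hperf, top_inf_eq] at hfoc
  obtain ⟨M₁, -, hM₁M, hM₁n, hidx, -⟩ := m.exists_kernel
  haveI : (M₁.subgroupOf M).Normal := (Subgroup.normal_subgroupOf_iff_le_normalizer hM₁M).mpr hM₁n
  have hcomm : commutator M ≤ M₁.subgroupOf M := by
    refine Subgroup.Normal.quotient_commutative_iff_commutator_le.mp ?_
    haveI := isCyclic_of_prime_card (α := M ⧸ M₁.subgroupOf M) (p := p) (by
      rw [← Subgroup.index_eq_card]; exact hidx)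
    infer_instance
  have hPM₁ : (P : Subgroup M) ≤ M₁.subgroupOf M := by
    intro x hx
    have h1 : (x : G) ∈ (T : Subgroup G) := hPT ▸ ⟨x, hx, rfl⟩
    have h2 : (x : G) ∈ ⁅M, M⁆ := by
      have h3 : (x : G) ∈ ⁅Y, Y⁆ ⊓ (T : Subgroup G) := hfoc ▸ h1
      exact Subgroup.commutator_mono hYM hYM h3.1
    rw [← Subgroup.map_subtype_commutator] at h2
    obtain ⟨w, hw, hwx⟩ := h2
    exact hcomm ((Subtype.ext hwx : w = x) ▸ hw)
  refine P.not_dvd_index ?_
  calc p ∣ (M₁.subgroupOf M).index := hidx ▸ dvd_refl _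
    _ ∣ _ := Subgroup.index_dvd_of_le hPM₁

end MD

end H72.PrimeAbelian
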