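import Cfsg.Agent.H72.PrimeAbelian.Basic
import Cfsg.Agent.H2.FixedGen.Basic
import Cfsg.Agent.H16.OddOrder

/-!
The unique maximal overgroup `M` of a maximal `p'`-subgroup `K` containing a Sylow 2-subgroup:
`M` is strongly embedded, `p = 2 ^ r - 1`, and `M` has a normal subgroup of index `p`.
-/

set_option autoImplicit false

open scoped Pointwise commutatorElement

namespace H72.PrimeAbelian

universe u

variable {p : ℕ} [hp : Fact p.Prime] {G : Type u} [Group G] [Finite G]

/-- The subgroup generated by the elements of `K` of order at most two. -/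
def Om (K : Subgroup G) : Subgroup G := Subgroup.closure {x : G | x ∈ K ∧ x * x = 1}

/-- `K` is a maximal subgroup of order prime to `p` containing the Sylow 2-subgroup `S`. -/
structure KD (p : ℕ) (S : Sylow 2 G) (K : Subgroup G) : Prop where
  ctx : Ctx p G
  le : (S : Subgroup G) ≤ K
  cop : (Nat.card K).Coprime p
  max : ∀ H : Subgroup G, (Nat.card H).Coprime p → K ≤ H → H = K

theorem exists_KD (c : Ctx p G) : ∃ (S : Sylow 2 G) (K : Subgroup G), KD p S K := by
  obtain ⟨S⟩ : Nonempty (Sylow 2 G) := inferInstance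
  have hS : (Nat.card (S : Subgroup G)).Coprime p := by
    obtain ⟨n, hn⟩ := IsPGroup.iff_card.mp S.2
    rw [hn]
    exact Nat.Coprime.pow_left _ ((Nat.coprime_primes Nat.prime_two hp.out).mpr c.two_ne.symm)
  obtain ⟨K, hSK, hK⟩ := Finite.exists_le_maximal
    (p := fun H : Subgroup G => (Nat.card H).Coprime p) hS
  exact ⟨S, K, c, hSK, hK.prop, fun H hH hle => le_antisymm (hK.le_of_ge hH hle) hle⟩

namespace KD

variable {S : Sylow 2 G} {K : Subgroup G} (d : KD p S K)
include d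

theorem comm {a b : G} (ha : a ∈ K) (hb : b ∈ K) : a * b = b * a :=
  d.ctx.comm_of_coprime d.cop ha hb

theorem ne_top : K ≠ ⊤ := d.ctx.ne_top_of_coprime d.cop

theorem hall {Y : Subgroup G} (hY : Y ≠ ⊤) (hKY : K ≤ Y) :
    ∃ k : ℕ, Nat.card Y = Nat.card K * p ^ k := by
  obtain ⟨H, hKH, -, hH, k, hk⟩ := d.ctx.exists_hall_ge hY hKY d.cop
  exact ⟨k, by rw [hk, d.max H hH hKH]⟩

theorem two_dvd : 2 ∣ Nat.card G := by
  by_contra h
  haveI := d.ctx.simple
  haveI := H16.FT.oddOrder (G := G) (Nat.odd_iff.mpr (Nat.two_dvd_ne_zero.mp h))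
  exact d.ctx.nonab ⟨⟨fun a b => by
    by_contra hab
    refine hab ?_
    have := IsSimpleGroup.comm_iff_isSolvable.mpr (inferInstance : Group.IsSolvable G)
    exact this a b⟩⟩

theorem sylow_comm : IsMulCommutative (S : Subgroup G) :=
  ⟨⟨fun a b => Subtype.ext (d.comm (d.le a.2) (d.le b.2))⟩⟩

theorem mem_om {x : G} : x ∈ Om K ↔ x ∈ K ∧ x * x = 1 := by
  refine ⟨fun hx => ?_, fun hx => Subgroup.subset_closure hx⟩
  induction hx using Subgroup.closure_induction with
  | mem x hx => exact hx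
  | one => exact ⟨one_mem _, one_mul 1⟩
  | mul a b _ _ ha hb =>
    refine ⟨mul_mem ha.1 hb.1, ?_⟩
    calc a * b * (a * b) = a * (b * a) * b := by group
      _ = a * (a * b) * b := by rw [d.comm hb.1 ha.1]
      _ = a * a * (b * b) := by group
      _ = 1 := by rw [ha.2, hb.2, one_mul]
  | inv a _ ha =>
    refine ⟨inv_mem ha.1, ?_⟩
    rw [← mul_inv_rev, ha.2, inv_one]

theorem om_le_K : Om K ≤ K := fun _ h => (d.mem_om.mp h).1

theorem om_le_sylow : Om K ≤ (S : Subgroup G) := by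
  intro x hx
  obtain ⟨hxK, hx2⟩ := d.mem_om.mp hx
  have hxp : IsPGroup 2 (Subgroup.zpowers x) := by
    intro ⟨y, hy⟩
    obtain ⟨i, rfl⟩ := Subgroup.mem_zpowers_iff.mp hy
    refine ⟨1, Subtype.ext ?_⟩
    show (x ^ i) ^ 2 ^ 1 = 1
    rw [pow_one, ← zpow_natCast, ← zpow_mul, mul_comm, zpow_mul, zpow_natCast, pow_two, hx2,
      one_zpow]
  have hN : Subgroup.zpowers x ≤ Subgroup.normalizer ((S : Subgroup G) : Set G) := by
    refine (Subgroup.zpowers_le).mpr (Subgroup.mem_normalizer_iff.mpr fun y => ?_)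
    constructor
    · intro hy
      rwa [d.comm hxK (d.le hy), mul_inv_cancel_right]
    · intro hy
      have h1 : x⁻¹ * (x * y * x⁻¹) * x = y := by group
      rw [← h1, d.comm (inv_mem hxK) (d.le hy), inv_mul_cancel_right]
      exact hy
  have h1 := IsPGroup.to_sup_of_normal_left' (H := (S : Subgroup G)) (K := Subgroup.zpowers x) S.2 hxp hN
  exact (S.is_maximal' h1 le_sup_left).le (Subgroup.mem_sup_right (Subgroup.mem_zpowers x))

theorem om_commutative {a b : G} (ha : a ∈ Om K) (hb : b ∈ Om K) : a * b = b * a :=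
  d.comm (d.om_le_K ha) (d.om_le_K hb)

theorem om_isPGroup : IsPGroup 2 (Om K) := S.2.to_le d.om_le_sylow

/-- Every involution is conjugate into `Om K`. -/
theorem exists_conj_mem_om {t : G} (ht : orderOf t = 2) : ∃ g : G, g * t * g⁻¹ ∈ Om K := by
  have h1 : IsPGroup 2 (Subgroup.zpowers t) :=
    IsPGroup.of_card (n := 1) (by rw [Nat.card_zpowers, ht, pow_one])
  obtain ⟨P, hP⟩ := h1.exists_le_sylow
  obtain ⟨g, hg⟩ := MulAction.exists_smul_eq G P S
  refine ⟨g, d.mem_om.mpr ⟨d.le ?_, ?_⟩⟩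
  · rw [← hg]
    exact ⟨t, hP (Subgroup.mem_zpowers t), rfl⟩
  · rw [show g * t * g⁻¹ * (g * t * g⁻¹) = g * (t * t) * g⁻¹ by group, ← pow_two, ← ht,
      pow_orderOf_eq_one]
    group

theorem K_le_centralizer {x : G} (hx : x ∈ K) : K ≤ Subgroup.centralizer ({x} : Set G) :=
  fun _ hy => Subgroup.mem_centralizer_singleton_iff.mpr (d.comm hy hx)

/-- An element of order prime to `p` normalising `K` lies in `K`. -/
theorem mem_of_normalizes {g : G} (hg : (orderOf g).Coprime p)
    (h : g ∈ Subgroup.normalizer (K : Set G)) : g ∈ K := by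
  have h1 : Subgroup.zpowers g ⊔ K = K := by
    refine d.max _ ?_ le_sup_right
    exact (hp.out.coprime_iff_not_dvd.mpr (Cfsg.Comp.not_dvd_card_sup ((Subgroup.zpowers_le).mpr h)
      (by rw [Nat.card_zpowers]; exact hp.out.coprime_iff_not_dvd.mp hg.symm)
      (hp.out.coprime_iff_not_dvd.mp d.cop.symm))).symm
  exact h1.le (Subgroup.mem_sup_left (Subgroup.mem_zpowers g))

/-- The structure of a proper subgroup above `K`. -/
theorem core {Y : Subgroup G} (hY : Y ≠ ⊤) (hKY : K ≤ Y) :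
    (∀ A : Subgroup G, A ≤ Y → IsPGroup p A → K ≤ Subgroup.normalizer (A : Set G) →
      A ≤ Cfsg.pCoreOf p Y) ∧
    Y ≤ Cfsg.pCoreOf p Y ⊔ (Y ⊓ Subgroup.normalizer (K : Set G)) := by
  obtain ⟨k, hk⟩ := d.hall hY hKY
  haveI hsol : Group.IsSolvable Y := d.ctx.proper Y hY
  haveI : IsMulCommutative (K.subgroupOf Y) :=
    ⟨⟨fun a b => Subtype.ext (Subtype.ext (d.comm a.2 b.2))⟩⟩
  have hKc : Nat.card (K.subgroupOf Y) = Nat.card K :=
    Nat.card_congr (Subgroup.subgroupOfEquivOfLe hKY).toEquiv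
  obtain ⟨hn, hall⟩ := abelianHall_core (p := p) hsol (K.subgroupOf Y) (hKc ▸ d.cop) (hKc ▸ hk)
  constructor
  · intro A hAY hA hKA
    have h1 := hall (A.subgroupOf Y) (hA.of_equiv (Subgroup.subgroupOfEquivOfLe hAY).symm) (by
      intro x hx
      rw [Subgroup.mem_normalizer_iff]
      intro y
      rw [Subgroup.mem_subgroupOf, Subgroup.mem_subgroupOf]
      exact Subgroup.mem_normalizer_iff.mp (hKA hx) y)
    have h2 := Subgroup.map_mono (f := Y.subtype) h1
    rwa [Subgroup.map_subgroupOf_eq_of_le hAY] at h2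
  · intro y hy
    haveI := H1.pCore_normal' p Y
    set O := Cfsg.pCore p Y with hO
    set Kc := K.subgroupOf Y with hKcd
    have hcop : (Nat.card O).Coprime (Nat.card Kc) := by
      obtain ⟨n, hn⟩ := IsPGroup.iff_card.mp (H1.isPGroup_pCore p Y)
      rw [hn, hKc]
      exact Nat.Coprime.pow_left _ d.cop.symm
    haveI : Group.IsSolvable O := inferInstance
    have hnorm : Kc ≤ Subgroup.normalizer (O : Set Y) :=
      le_top.trans (Subgroup.normalizer_eq_top_iff.mpr inferInstance).ge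
    obtain ⟨o, ho, he⟩ := H1.exists_conj_eq_of_coprime (D := O) (H := Kc)
      (K := MulAut.conj (⟨y, hy⟩ : Y) • Kc) hnorm hcop (Or.inl inferInstance) (by
        rintro _ ⟨z, hz, rfl⟩
        exact hn.conj_mem z (Subgroup.mem_sup_right hz) _) (H1.card_conj_smul _ _)
    have hmem : (o : Y)⁻¹ * ⟨y, hy⟩ ∈ Subgroup.normalizer (Kc : Set Y) := by
      refine Cfsg.Comp.mem_normalizer_of_map_conj_eq ?_
      have h2 : MulAut.conj ((o : Y)⁻¹ * ⟨y, hy⟩) • Kc = Kc := by
        rw [map_mul, mul_smul, ← he, ← mul_smul, ← map_mul, inv_mul_cancel, map_one, one_smul]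
      exact h2
    have hy' : y = ((o : Y) : G) * (((o : Y)⁻¹ * ⟨y, hy⟩ : Y) : G) := by
      rw [← Subgroup.coe_mul, mul_inv_cancel_left]
    rw [hy']
    refine Subgroup.mul_mem_sup ⟨o, ho, rfl⟩ ⟨SetLike.coe_mem _, ?_⟩
    refine Subgroup.mem_normalizer_iff.mpr fun z => ?_
    constructor
    · intro hz
      exact (Subgroup.mem_normalizer_iff.mp hmem ⟨z, hKY hz⟩).mp hz
    · intro hz
      have hzY : z ∈ Y := by
        have h3 := Y.mul_mem (Y.mul_mem (Y.inv_mem (((o : Y)⁻¹ * ⟨y, hy⟩ : Y)).2) (hKY hz))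
          (((o : Y)⁻¹ * ⟨y, hy⟩ : Y)).2
        convert h3 using 1
        group
      exact (Subgroup.mem_normalizer_iff.mp hmem ⟨z, hzY⟩).mpr hz

theorem eight_le : 8 ≤ Nat.card (Om K) := by
  obtain ⟨g, hgN, ⟨k, hk⟩, hgC⟩ := d.ctx.exists_pElement_moving S d.ctx.two_ne.symm d.two_dvd
  -- some element of `Om K` is moved
  have hmove : ∃ x ∈ Om K, g * x * g⁻¹ ≠ x := by
    by_contra hcon
    push Not at hcon
    refine hgC fun x hx => ?_
    induction hn : orderOf x using Nat.strong_induction_on generalizing x with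
    | _ n ih =>
    obtain ⟨j, hj⟩ := IsPGroup.iff_orderOf.mp S.2 ⟨x, hx⟩
    rw [← Subgroup.orderOf_coe] at hj
    change orderOf x = 2 ^ j at hj
    rcases Nat.eq_zero_or_pos j with h0 | h0
    · rw [orderOf_eq_one_iff.mp (hj.trans (by rw [h0, pow_zero]))]; simp
    have hsq : g * (x * x) * g⁻¹ = x * x := by
      have h2 : orderOf (x * x) < n := by
        rw [← pow_two, orderOf_pow, hj, ← hn, hj]
        have : Nat.gcd (2 ^ j) 2 = 2 := Nat.gcd_eq_right (dvd_pow_self 2 h0.ne')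
        rw [this]
        exact Nat.div_lt_self (pow_pos two_pos _) one_lt_two
      exact mul_inv_eq_iff_eq_mul.mpr (ih _ h2 _ (mul_mem hx hx) rfl).symm
    set y := g * x * g⁻¹ with hy
    have hyS : y ∈ (S : Subgroup G) := (Subgroup.mem_normalizer_iff.mp hgN x).mp hx
    set e := x⁻¹ * y with he
    have hee : e * e = 1 := by
      have h1 : y * y = x * x := by rw [hy, ← hsq]; group
      have hc : x⁻¹ * y = y * x⁻¹ := d.comm (inv_mem (d.le hx)) (d.le hyS)
      calc e * e = x⁻¹ * (y * x⁻¹) * y := by rw [he]; group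
        _ = x⁻¹ * (x⁻¹ * y) * y := by rw [hc]
        _ = x⁻¹ * x⁻¹ * (y * y) := by group
        _ = 1 := by rw [h1]; group
    have heO : e ∈ Om K := d.mem_om.mpr ⟨mul_mem (inv_mem (d.le hx)) (d.le hyS), hee⟩
    have hge : g * e * g⁻¹ = e := hcon e heO
    have hxy : g * x * g⁻¹ = x * e := by rw [he, ← hy]; group
    have hit : ∀ i : ℕ, g ^ i * x * (g ^ i)⁻¹ = x * e ^ i := by
      intro i
      induction i with
      | zero => simp
      | succ i ihi =>
        have hgei : g * e ^ i * g⁻¹ = e ^ i := by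
          rw [← conj_pow, hge]
        calc g ^ (i + 1) * x * (g ^ (i + 1))⁻¹ = g * (g ^ i * x * (g ^ i)⁻¹) * g⁻¹ := by
              rw [pow_succ']; group
          _ = (g * x * g⁻¹) * (g * e ^ i * g⁻¹) := by rw [ihi]; group
          _ = x * e ^ (i + 1) := by rw [hxy, hgei, mul_assoc, ← pow_succ']
    have h1 := hit (p ^ k)
    rw [hk, one_mul, inv_one, mul_one] at h1
    have hepk : e ^ p ^ k = 1 := by
      have := congrArg (fun z => x⁻¹ * z) h1
      simpa using this.symm
    have he1 : e = 1 := orderOf_eq_one_iff.mp (Nat.eq_one_of_dvd_coprimes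
      ((Nat.coprime_primes Nat.prime_two hp.out).mpr d.ctx.two_ne.symm |>.pow_right k)
      (orderOf_dvd_of_pow_eq_one (by rw [pow_two, hee])) (orderOf_dvd_of_pow_eq_one hepk))
    rw [he1, mul_one] at hxy
    exact (mul_inv_eq_iff_eq_mul.mp hxy).symm
  obtain ⟨x, hx, hxg⟩ := hmove
  -- its orbit has at least `p` points
  have hO : ∀ y ∈ Om K, g * y * g⁻¹ ∈ Om K := fun y hy => d.mem_om.mpr
    ⟨d.le ((Subgroup.mem_normalizer_iff.mp hgN y).mp (d.om_le_sylow hy)), by
      rw [show g * y * g⁻¹ * (g * y * g⁻¹) = g * (y * y) * g⁻¹ by group, (d.mem_om.mp hy).2]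
      group⟩
  let X := {y : G // y ∈ Om K ∧ y ≠ 1}
  let T : Equiv.Perm X := Equiv.ofBijective
    (fun y => (⟨g * y.1 * g⁻¹, hO _ y.2.1, fun h => y.2.2 (by simpa using h)⟩ : X))
    (Finite.injective_iff_bijective.mp fun a b h => by
      have := congrArg Subtype.val h
      exact Subtype.ext (mul_left_cancel (mul_right_cancel this)))
  have hTit : ∀ (i : ℕ) (y : X), ((T ^ i) y).1 = g ^ i * y.1 * (g ^ i)⁻¹ := by
    intro i
    induction i with
    | zero => simp
    | succ i ihi =>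
      intro y
      rw [pow_succ', Equiv.Perm.mul_apply]
      show g * _ * g⁻¹ = _
      rw [ihi, pow_succ']; group
  have hTp : T ^ p ^ k = 1 := Equiv.ext fun y => Subtype.ext (by
    rw [hTit, hk]; simp)
  have hT1 : T ≠ 1 := by
    intro h
    have hx1 : x ≠ 1 := fun h1 => hxg (by simp [h1])
    exact hxg (congrArg Subtype.val (congrArg (fun f : Equiv.Perm X => f ⟨x, hx, hx1⟩) h))
  obtain ⟨i, -, hi⟩ := (Nat.dvd_prime_pow hp.out).mp (orderOf_dvd_of_pow_eq_one hTp)
  have hi0 : i ≠ 0 := by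
    rintro rfl
    exact hT1 (orderOf_eq_one_iff.mp (by rw [hi, pow_zero]))
  have hdvd : p ∣ (Nat.card X).factorial := by
    refine (dvd_pow_self p hi0).trans (hi ▸ ?_)
    rw [← Nat.card_perm]
    exact orderOf_dvd_natCard T
  have hX : p ≤ Nat.card X := (Nat.Prime.dvd_factorial hp.out).mp hdvd
  have hlt : Nat.card X < Nat.card (Om K) := by
    haveI := Fintype.ofFinite X
    haveI := Fintype.ofFinite (Om K)
    rw [Nat.card_eq_fintype_card, Nat.card_eq_fintype_card]
    refine Fintype.card_lt_of_injective_of_notMem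
      (fun y : X => (⟨y.1, y.2.1⟩ : Om K))
      (fun a b h => Subtype.ext (congrArg Subtype.val h :)) (b := 1) ?_
    rintro ⟨y, hy⟩
    exact y.2.2 (congrArg Subtype.val hy :)
  obtain ⟨m, hm⟩ := IsPGroup.iff_card.mp d.om_isPGroup
  have := d.ctx.five
  have hm3 : 3 ≤ m := by
    by_contra hm3
    have : 2 ^ m ≤ 2 ^ 2 := Nat.pow_le_pow_right two_pos (by omega)
    omega
  exact hm ▸ le_trans (by norm_num) (Nat.pow_le_pow_right two_pos hm3)

/-- There is a largest `p`-subgroup normalised by `K`. -/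
theorem exists_largest :
    ∃ R : Subgroup G, IsPGroup p R ∧ K ≤ Subgroup.normalizer (R : Set G) ∧
      ∀ A : Subgroup G, IsPGroup p A → K ≤ Subgroup.normalizer (A : Set G) → A ≤ R := by
  classical
  let Inv : Subgroup G → Prop := fun A => IsPGroup p A ∧ K ≤ Subgroup.normalizer (A : Set G)
  have hbot : Inv ⊥ := ⟨IsPGroup.of_bot, fun x _ => by
    rw [Subgroup.mem_normalizer_iff]; intro y; simp⟩
  have hmeet : ∀ n : ℕ, ∀ P Q : Subgroup G, Maximal Inv P → Maximal Inv Q → P ⊓ Q ≠ ⊥ →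
      Nat.card G - Nat.card ↥(P ⊓ Q) = n → P = Q := by
    intro n
    induction n using Nat.strong_induction_on with
    | _ n ih =>
    intro P Q hP hQ hne hn
    by_contra hPQ
    set D := P ⊓ Q with hD
    have hKD : K ≤ Subgroup.normalizer (D : Set G) :=
      (le_inf hP.prop.2 hQ.prop.2).trans Subgroup.inf_normalizer_le_normalizer_inf
    have hDp : IsPGroup p D := hP.prop.1.to_le inf_le_left
    set Y := Subgroup.normalizer (D : Set G) with hY
    have hYt : Y ≠ ⊤ := d.ctx.normalizer_ne_top hne (d.ctx.pgroup_ne_top hDp)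
    have hO : Inv (Cfsg.pCoreOf p Y) := by
      refine ⟨(H1.isPGroup_pCore p Y).map _, hKD.trans ?_⟩
      haveI := H1.pCore_characteristic p Y
      exact Subgroup.le_normalizer.trans (Cfsg.Comp.le_normalizer_map_subtype (Cfsg.pCore p Y))
    obtain ⟨T, hOT, hT⟩ := Finite.exists_le_maximal (p := Inv) hO
    have hgrow : ∀ U : Subgroup G, Maximal Inv U → D ≤ U → D ≠ U →
        ∃ x ∈ U, x ∈ T ∧ x ∉ D := by
      intro U hU hDU hne'
      have hlt : D < U ⊓ Y := by
        haveI : Group.IsNilpotent U := IsPGroup.isNilpotent hU.prop.1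
        have h1 : D.subgroupOf U < ⊤ := lt_top_iff_ne_top.mpr fun h =>
          hne' (le_antisymm hDU (Subgroup.subgroupOf_eq_top.mp h))
        obtain ⟨x, hx, hxD⟩ := SetLike.exists_of_lt (normalizerCondition_of_isNilpotent _ h1)
        refine lt_of_le_of_ne (le_inf hDU Subgroup.le_normalizer) fun he => hxD ?_
        refine Subgroup.mem_subgroupOf.mpr (he.symm ▸ ⟨x.2, ?_⟩)
        refine Subgroup.mem_normalizer_iff.mpr fun y => ?_
        constructor
        · intro hy
          exact (Subgroup.mem_normalizer_iff.mp hx ⟨y, hDU hy⟩).mp hy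
        · intro hy
          have hyU : y ∈ U := by
            have := U.mul_mem (U.mul_mem (U.inv_mem x.2) (hDU hy)) x.2
            convert this using 1; group
          exact (Subgroup.mem_normalizer_iff.mp hx ⟨y, hyU⟩).mpr hy
      obtain ⟨x, hx, hxD⟩ := SetLike.exists_of_lt hlt
      refine ⟨x, hx.1, hOT ((d.core hYt hKD).1 (U ⊓ Y) inf_le_right (hU.prop.1.to_le inf_le_left)
        ((le_inf hU.prop.2 (hKD.trans Subgroup.le_normalizer)).trans
          Subgroup.inf_normalizer_le_normalizer_inf) hx), hxD⟩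
    have hDT : D ≤ T := le_trans ((d.core hYt hKD).1 D Subgroup.le_normalizer hDp hKD) hOT
    have hDP : D ≠ P := fun h => hPQ (hP.eq_of_le hQ.prop (h ▸ inf_le_right))
    have hDQ : D ≠ Q := fun h => hPQ (hQ.eq_of_le hP.prop (h ▸ inf_le_left)).symm
    have hbig : ∀ U : Subgroup G, Maximal Inv U → D ≤ U → D ≠ U → U = T := by
      intro U hU hDU hne'
      obtain ⟨x, hxU, hxT, hxD⟩ := hgrow U hU hDU hne'
      have hlt : D < U ⊓ T :=
        SetLike.lt_iff_le_and_exists.mpr ⟨le_inf hDU hDT, x, Subgroup.mem_inf.mpr ⟨hxU, hxT⟩, hxD⟩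
      have hcard : Nat.card D < Nat.card ↥(U ⊓ T) := lt_of_le_of_ne
        (Subgroup.card_le_of_le hlt.le) fun h => hlt.ne (Subgroup.eq_of_le_of_card_ge hlt.le h.ge)
      have hle := Subgroup.card_le_card_group (U ⊓ T)
      refine ih _ (by omega) U T hU hT ?_ rfl
      intro h; rw [h] at hlt; exact not_lt_bot hlt
    exact hPQ ((hbig P hP inf_le_left hDP).trans (hbig Q hQ inf_le_right hDQ).symm)
  obtain ⟨R, -, hR⟩ := Finite.exists_le_maximal (p := Inv) hbot
  refine ⟨R, hR.prop.1, hR.prop.2, fun A hA hKA => ?_⟩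
  obtain ⟨Q, hAQ, hQ⟩ := Finite.exists_le_maximal (p := Inv) (show Inv A from ⟨hA, hKA⟩)
  suffices Q = R from this ▸ hAQ
  by_cases hQ0 : Q = ⊥
  · exact hQ.eq_of_le hR.prop (hQ0 ▸ bot_le)
  by_cases hR0 : R = ⊥
  · exact (hR.eq_of_le hQ.prop (hR0 ▸ bot_le)).symm
  -- two subgroups `V` of small index with fixed points
  have hodd : ∀ U : Subgroup G, IsPGroup p U → Odd (Nat.card U) := by
    intro U hU
    obtain ⟨n, hn⟩ := IsPGroup.iff_card.mp hU
    rw [hn]
    exact (hp.out.odd_of_ne_two d.ctx.two_ne).pow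
  have hV : ∀ U : Subgroup G, Inv U → U ≠ ⊥ → ∃ V : Subgroup G, H2.FixedGen.CycQ V (Om K) ∧
      ∃ x ∈ U, x ≠ 1 ∧ x ∈ Subgroup.centralizer (V : Set G) := by
    intro U hU hne
    by_contra hcon
    push Not at hcon
    refine hne (le_bot_iff.mp (H2.FixedGen.le_of_fixed_cycQ (fun a ha b hb => d.om_commutative ha hb)
      d.om_isPGroup U ⊥ (hodd U hU.1) (d.om_le_K.trans hU.2) bot_le ?_ ?_))
    · intro x _ y hy
      rw [Subgroup.mem_bot.mp hy]; simp
    · intro V hV x hx
      by_contra hx1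
      exact hcon V hV x hx.1 (fun h => hx1 (h ▸ one_mem _)) hx.2
  have hVcard : ∀ V : Subgroup G, H2.FixedGen.CycQ V (Om K) →
      Nat.card (Om K) ≤ 2 * Nat.card V := by
    rintro V ⟨hVE, b, hb, hgen⟩
    have hbb : b * b = 1 := (d.mem_om.mp hb).2
    calc Nat.card (Om K) ≤ Nat.card (Fin 2 × V) := by
          refine Nat.card_le_card_of_surjective
            (fun w : Fin 2 × V => (⟨b ^ (w.1 : ℕ) * w.2, mul_mem (pow_mem hb _) (hVE w.2.2)⟩ : Om K))
            ?_
          rintro ⟨z, hz⟩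
          obtain ⟨i, hi⟩ := hgen z hz
          obtain ⟨j, hj⟩ : ∃ j : Fin 2, b ^ i = b ^ (j : ℕ) := by
            have hb2 : b ^ (2 : ℤ) = 1 := by rw [zpow_two, hbb]
            rcases Int.even_or_odd i with ⟨l, hl⟩ | ⟨l, hl⟩
            · exact ⟨0, by rw [hl, ← two_mul, zpow_mul, hb2, one_zpow]; simp⟩
            · exact ⟨1, by rw [hl, zpow_add, zpow_mul, hb2, one_zpow]; simp⟩
          exact ⟨(j, ⟨_, hi⟩), Subtype.ext (by simp [← hj])⟩
      _ = 2 * Nat.card V := by simp [Nat.card_prod]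
  obtain ⟨V1, hV1, x1, hx1, hx11, hx1C⟩ := hV Q hQ.prop hQ0
  obtain ⟨V2, hV2, x2, hx2, hx21, hx2C⟩ := hV R hR.prop hR0
  have hV12 : V1 ⊓ V2 ≠ ⊥ := by
    intro h
    have h1 := hVcard V1 hV1
    have h2 := hVcard V2 hV2
    have h3 : Nat.card V1 * Nat.card V2 ≤ Nat.card (Om K) := by
      rw [← Nat.card_prod]
      refine Nat.card_le_card_of_injective
        (fun w : V1 × V2 => (⟨w.1 * w.2, mul_mem (hV1.1 w.1.2) (hV2.1 w.2.2)⟩ : Om K)) ?_
      rintro ⟨a, b⟩ ⟨a', b'⟩ hab
      exact Subgroup.mul_injective_of_disjoint (disjoint_iff.mpr h) (congrArg Subtype.val hab :)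
    have h8 := d.eight_le
    have : Nat.card (Om K) * Nat.card (Om K) ≤ 4 * Nat.card (Om K) := by
      calc _ ≤ (2 * Nat.card V1) * (2 * Nat.card V2) := Nat.mul_le_mul h1 h2
        _ = 4 * (Nat.card V1 * Nat.card V2) := by ring
        _ ≤ 4 * Nat.card (Om K) := Nat.mul_le_mul_left _ h3
    have := Nat.le_of_mul_le_mul_right this (by omega)
    omega
  obtain ⟨⟨t, ht⟩, ht'⟩ := Subgroup.ne_bot_iff_exists_ne_one.mp hV12
  have ht1 : t ≠ 1 := fun h => ht' (Subtype.ext h)
  set C := Subgroup.centralizer ({t} : Set G) with hC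
  have hCt : C ≠ ⊤ := d.ctx.centralizer_ne_top ht1
  have hKC : K ≤ C := d.K_le_centralizer (d.om_le_K (hV1.1 ht.1))
  have hInvC : ∀ U : Subgroup G, Inv U → Inv (U ⊓ C) := fun U hU => ⟨hU.1.to_le inf_le_left,
    (le_inf hU.2 (hKC.trans Subgroup.le_normalizer)).trans Subgroup.inf_normalizer_le_normalizer_inf⟩
  obtain ⟨T, hOT, hT⟩ := Finite.exists_le_maximal (p := Inv) (show Inv (Cfsg.pCoreOf p C) from
    ⟨(H1.isPGroup_pCore p C).map _, hKC.trans (by
      haveI := H1.pCore_characteristic p C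
      exact Subgroup.le_normalizer.trans (Cfsg.Comp.le_normalizer_map_subtype (Cfsg.pCore p C)))⟩)
  have hT' : ∀ U : Subgroup G, Maximal Inv U → ∀ x ∈ U, x ≠ 1 → x ∈ C → U = T := by
    intro U hU x hxU hx hxC
    refine hmeet _ U T hU hT (fun h => hx ?_) rfl
    have hxT : x ∈ T := hOT ((d.core hCt hKC).1 _ inf_le_right (hInvC U hU.prop).1
      (hInvC U hU.prop).2 ⟨hxU, hxC⟩)
    exact Subgroup.mem_bot.mp (h ▸ ⟨hxU, hxT⟩)
  rw [hT' Q hQ x1 hx1 hx11 (Subgroup.mem_centralizer_singleton_iff.mpr (hx1C t ht.1).symm),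
    hT' R hR x2 hx2 hx21 (Subgroup.mem_centralizer_singleton_iff.mpr (hx2C t ht.2).symm)]

end KD

end H72.PrimeAbelian
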