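import Cfsg.Agent.H72.PrimeAbelian.Count

/-!
Fixed points on the cosets of `M`: the Sylow `p`-subgroups of `M` have order `p`.
-/

set_option autoImplicit false

open scoped Pointwise commutatorElement

namespace H72.PrimeAbelian

universe u

variable {p : ℕ} [hp : Fact p.Prime] {G : Type u} [Group G] [Finite G]

omit [Finite G] in
theorem smul_coset_eq {M : Subgroup G} {a h : G} :
    a • (h : G ⧸ M) = (h : G ⧸ M) ↔ h⁻¹ * a * h ∈ M := by
  show ((a * h : G) : G ⧸ M) = (h : G ⧸ M) ↔ _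
  rw [QuotientGroup.eq, ← M.inv_mem_iff]
  simp [mul_assoc]

omit [Finite G] in
theorem conj_inv_self {u : G} (hu : orderOf u = 2) : u⁻¹ = u :=
  inv_eq_of_mul_eq_one_right (by rw [← pow_two, ← hu, pow_orderOf_eq_one])

/-- A proper subgroup of a `p`-subgroup is properly normalised in it. -/
theorem exists_normalizing {A T : Subgroup G} (hT : IsPGroup p T) (hAT : A ≤ T) (hne : A ≠ T) :
    ∃ z ∈ T, z ∉ A ∧ z ∈ Subgroup.normalizer (A : Set G) := by
  haveI : Group.IsNilpotent T := hT.isNilpotent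
  have h1 : A.subgroupOf T < ⊤ :=
    lt_top_iff_ne_top.mpr fun h' => hne (le_antisymm hAT (Subgroup.subgroupOf_eq_top.mp h'))
  obtain ⟨x, hx, hxP⟩ := SetLike.exists_of_lt (normalizerCondition_of_isNilpotent _ h1)
  refine ⟨x, x.2, fun h => hxP (Subgroup.mem_subgroupOf.mpr h), ?_⟩
  refine Cfsg.Comp.mem_normalizer_of_map_conj_eq ?_
  refine Subgroup.eq_of_le_of_card_ge ?_ (Subgroup.card_map_of_injective
    (MulAut.conj (x : G)).injective).ge
  rintro _ ⟨y, hy, rfl⟩
  exact (Subgroup.mem_normalizer_iff.mp hx ⟨y, hAT hy⟩).mp hy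

namespace FD

variable {K E M M₁ : Subgroup G} (d : FD p K E M M₁)
include d

theorem fixed_iff {A : Subgroup G} {h : G} :
    (h : G ⧸ M) ∈ MulAction.fixedPoints A (G ⧸ M) ↔ ∀ a ∈ A, h⁻¹ * a * h ∈ M :=
  ⟨fun hf a ha => smul_coset_eq.mp (hf ⟨a, ha⟩), fun hf a => smul_coset_eq.mpr (hf a a.2)⟩

theorem index_modEq {A : Subgroup G} (hA : IsPGroup p A) :
    M.index ≡ Nat.card (MulAction.fixedPoints A (G ⧸ M)) [MOD p] := by
  rw [Subgroup.index_eq_card]
  exact hA.card_modEq_card_fixedPoints (G ⧸ M)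

theorem even_fixed {A : Subgroup G} {x u : G} (hx : orderOf x = p) (hu : orderOf u = 2)
    (hxu : u * x * u⁻¹ = x⁻¹) (hxA : x ∈ A) (huA : u ∈ Subgroup.normalizer (A : Set G)) :
    2 ∣ Nat.card (MulAction.fixedPoints A (G ⧸ M)) := by
  classical
  set F := MulAction.fixedPoints A (G ⧸ M)
  have hstab : ∀ v ∈ Subgroup.normalizer (A : Set G), ∀ q ∈ F, v • q ∈ F := by
    intro v hv q hq a
    show (a : G) • (v • q) = v • q
    have h1 : v⁻¹ * (a : G) * v ∈ A := (Subgroup.mem_normalizer_iff.mp hv _).mpr (by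
      rw [show v * (v⁻¹ * (a : G) * v) * v⁻¹ = (a : G) by group]; exact a.2)
    rw [show (a : G) • (v • q) = v • ((v⁻¹ * (a : G) * v) • q) by
      rw [← mul_smul, ← mul_smul]; group]
    exact congrArg (v • ·) (hq ⟨_, h1⟩)
  let U := Subgroup.zpowers u
  letI : MulAction U F :=
    { smul := fun v q => ⟨(v : G) • q.1, hstab v ((Subgroup.zpowers_le).mpr huA v.2) q.1 q.2⟩
      one_smul := fun q => Subtype.ext (one_smul G q.1)
      mul_smul := fun v w q => Subtype.ext (mul_smul (v : G) (w : G) q.1) }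
  have hU : IsPGroup 2 U := IsPGroup.of_card (n := 1) (by rw [Nat.card_zpowers, hu, pow_one])
  have h := hU.card_modEq_card_fixedPoints F
  have hempty : IsEmpty (MulAction.fixedPoints U F) := by
    refine ⟨fun ⟨⟨q, hq⟩, hqf⟩ => ?_⟩
    obtain ⟨g, rfl⟩ := QuotientGroup.mk_surjective q
    exact d.not_both hx hu hxu (d.fixed_iff.mp hq x hxA)
      (smul_coset_eq.mp (congrArg Subtype.val (hqf ⟨u, Subgroup.mem_zpowers u⟩)))
  rw [Nat.card_of_isEmpty (α := MulAction.fixedPoints U F)] at h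
  exact Nat.modEq_zero_iff_dvd.mp h

theorem fixed_le_one {A : Subgroup G} (hA : p ^ 2 < Nat.card A) :
    Nat.card (MulAction.fixedPoints A (G ⧸ M)) ≤ 1 := by
  refine Finite.card_le_one_iff_subsingleton.mpr ⟨fun q₁ q₂ => ?_⟩
  obtain ⟨h₁, e₁⟩ := QuotientGroup.mk_surjective q₁.1
  obtain ⟨h₂, e₂⟩ := QuotientGroup.mk_surjective q₂.1
  refine Subtype.ext ?_
  rw [← e₁, ← e₂, QuotientGroup.eq]
  by_contra hne
  have f₁ := d.fixed_iff.mp (e₁ ▸ q₁.2)
  have f₂ := d.fixed_iff.mp (e₂ ▸ q₂.2)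
  refine absurd (Nat.card_le_card_of_injective
    (fun a : A => (⟨h₁⁻¹ * a * h₁, d.mem_two.mpr ⟨f₁ a a.2, by
      convert f₂ a a.2 using 1; group⟩⟩ : d.two (h₁⁻¹ * h₂)))
    (fun a b hab => Subtype.ext (mul_left_cancel (mul_right_cancel (congrArg Subtype.val hab)))))
    (not_le.mpr (lt_of_le_of_lt (d.two_card hne) hA))

theorem fixed_le_p {A : Subgroup G} {x u : G} (hcard : Nat.card A = p ^ 2) (hx : orderOf x = p)
    (hu : orderOf u = 2) (hxu : u * x * u⁻¹ = x⁻¹) (hxA : x ∈ A) :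
    Nat.card (MulAction.fixedPoints A (G ⧸ M)) ≤ p := by
  classical
  set F := MulAction.fixedPoints A (G ⧸ M)
  have hex : ∀ q : F, ∃ (h a : G), (h : G ⧸ M) = q.1 ∧ a ∈ A ∧ a ≠ 1 ∧ h⁻¹ * a * h ∈ M₁ := by
    intro q
    obtain ⟨h, e⟩ := QuotientGroup.mk_surjective q.1
    refine ⟨h, ?_⟩
    by_contra hcon
    push Not at hcon
    have f := d.fixed_iff.mp (e ▸ q.2)
    have h1 : Nat.card A ≤ p := by
      refine le_of_le_of_eq (Nat.card_le_card_of_injective
        (fun a : A => QuotientGroup.mk (s := M₁.subgroupOf M) (⟨h⁻¹ * a * h, f a a.2⟩ : M))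
        fun a b hab => ?_) d.quot_card
      simp only [QuotientGroup.eq, Subgroup.mem_subgroupOf] at hab
      by_contra hne
      refine hcon ((a : G)⁻¹ * b) e (A.mul_mem (A.inv_mem a.2) b.2)
        (fun h0 => hne (Subtype.ext (inv_mul_eq_one.mp h0))) ?_
      convert hab using 1
      simp [mul_assoc]
    rw [hcard] at h1
    nlinarith [hp.out.two_le]
  choose h a hh haA ha1 haM using hex
  -- powers of `a q` are disjoint for different points and avoid `x`
  have hpow : ∀ q : F, ∀ i : ℕ, (h q)⁻¹ * a q ^ i * h q ∈ M₁ := fun q i => by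
    rw [show (h q)⁻¹ * a q ^ i * h q = ((h q)⁻¹ * a q * h q) ^ i by
      simpa using (conj_pow (i := i) (a := (h q)⁻¹) (b := a q)).symm]
    exact M₁.pow_mem (haM q) i
  have hap : ∀ q : F, p ≤ orderOf (a q) := fun q => by
    obtain ⟨k, hk⟩ := (IsPGroup.iff_orderOf.mp (IsPGroup.of_card hcard)) ⟨a q, haA q⟩
    rw [Subgroup.orderOf_mk] at hk
    rw [hk]
    refine Nat.le_self_pow ?_ p
    rintro rfl
    exact ha1 q (orderOf_eq_one_iff.mp (by rw [hk, pow_zero]))
  let φ : F × Fin (p - 1) → A := fun qi =>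
    ⟨a qi.1 ^ ((qi.2 : ℕ) + 1), A.pow_mem (haA qi.1) _⟩
  have hne1 : ∀ (q : F) (i : Fin (p - 1)), a q ^ ((i : ℕ) + 1) ≠ 1 := fun q i =>
    pow_ne_one_of_lt_orderOf (by omega) (lt_of_lt_of_le (by omega) (hap q))
  have hφ : Function.Injective φ := by
    rintro ⟨q, i⟩ ⟨q', i'⟩ hqi
    have he : a q ^ ((i : ℕ) + 1) = a q' ^ ((i' : ℕ) + 1) := congrArg Subtype.val hqi
    have hqq : q = q' := by
      by_contra hne
      refine hne1 q i ?_
      have h1 := hpow q ((i : ℕ) + 1)
      have h2 := hpow q' ((i' : ℕ) + 1)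
      rw [← he] at h2
      have h3 := d.eq_one_of_two h1 (g := (h q)⁻¹ * h q') (by convert h2 using 1; group) fun hM =>
        hne (Subtype.ext (by rw [← hh q, ← hh q', QuotientGroup.eq]; exact hM))
      rw [mul_eq_one_iff_eq_inv, inv_mul_eq_iff_eq_mul, mul_inv_cancel] at h3
      exact h3
    subst hqq
    refine Prod.ext rfl (Fin.ext ?_)
    have := pow_injOn_Iio_orderOf (x := a q)
      (show (i : ℕ) + 1 < orderOf (a q) from lt_of_lt_of_le (by omega) (hap q))
      (show (i' : ℕ) + 1 < orderOf (a q) from lt_of_lt_of_le (by omega) (hap q)) he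
    show (i : ℕ) = (i' : ℕ)
    exact Nat.succ_injective this
  let ψ : (F × Fin (p - 1)) ⊕ Fin p → A :=
    Sum.elim φ fun j => ⟨x ^ (j : ℕ), A.pow_mem hxA _⟩
  have hψ : Function.Injective ψ := by
    refine hφ.sumElim ?_ ?_
    · intro j j' hj
      exact Fin.ext (pow_injOn_Iio_orderOf (x := x) (show (j : ℕ) < orderOf x by rw [hx]; exact j.2)
        (show (j' : ℕ) < orderOf x by rw [hx]; exact j'.2) (congrArg Subtype.val hj))
    · rintro ⟨q, i⟩ j hj
      have he : a q ^ ((i : ℕ) + 1) = x ^ (j : ℕ) := congrArg Subtype.val hj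
      have hne := hne1 q i
      rw [he] at hne
      have hj0 : (j : ℕ) ≠ 0 := fun h0 => hne (by rw [h0, pow_zero])
      have hxj : orderOf (x ^ (j : ℕ)) = p := by
        refine orderOf_eq_prime (by
          rw [← pow_mul, mul_comm, pow_mul, orderOf_dvd_iff_pow_eq_one.mp hx.dvd, one_pow]) hne
      have hinv : u * x ^ (j : ℕ) * u⁻¹ = (x ^ (j : ℕ))⁻¹ := by rw [← conj_pow, hxu, inv_pow]
      have h1 := hpow q ((i : ℕ) + 1)
      rw [he] at h1
      obtain ⟨e, heE, -, heo⟩ := d.exists_involution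
      refine d.odd_centralizer hxj hu hinv ?_
      have h2 := (d.eq₁.le h1).2 e heE
      have h3 : h q * e * (h q)⁻¹ ∈ Subgroup.centralizer ({x ^ (j : ℕ)} : Set G) := by
        refine Subgroup.mem_centralizer_singleton_iff.mpr ?_
        calc h q * e * (h q)⁻¹ * x ^ (j : ℕ)
            = h q * (e * ((h q)⁻¹ * x ^ (j : ℕ) * h q)) * (h q)⁻¹ := by group
          _ = h q * (((h q)⁻¹ * x ^ (j : ℕ) * h q) * e) * (h q)⁻¹ := by rw [h2]
          _ = x ^ (j : ℕ) * (h q * e * (h q)⁻¹) := by group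
      have h4 : orderOf (h q * e * (h q)⁻¹) = 2 := ((MulAut.conj (h q)).orderOf_eq e).trans heo
      rw [← h4, ← Subgroup.orderOf_mk _ h3]
      exact orderOf_dvd_natCard _
  have hle := Nat.card_le_card_of_injective ψ hψ
  rw [Nat.card_sum, Nat.card_prod, Nat.card_fin, Nat.card_fin, hcard] at hle
  obtain ⟨k, hk⟩ : ∃ k, p = k + 1 := ⟨p - 1, by have := hp.out.pos; omega⟩
  rw [hk, Nat.add_sub_cancel, pow_two] at hle
  have hk0 : 0 < k := by have := hp.out.two_le; omega
  refine Nat.le_of_mul_le_mul_right ?_ hk0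
  calc Nat.card F * k ≤ (k + 1) * (k + 1) - (k + 1) := by omega
    _ = p * k := by rw [hk, ← Nat.mul_sub_one, Nat.add_sub_cancel]

theorem exists_invol {g : G} : ∃ u : G, orderOf u = 2 ∧ (u : G ⧸ M) = (g : G ⧸ M) := by
  have h := d.card_invs (g : G ⧸ M)
  haveI : Nonempty (d.invs (g : G ⧸ M)) := by
    refine not_isEmpty_iff.mp fun he => ?_
    rw [Nat.card_of_isEmpty] at h
    exact hp.out.ne_zero h.symm
  obtain ⟨⟨u, hu⟩⟩ := this
  exact ⟨u, hu⟩

theorem two_eq_of_coset {g g' : G} (h : (g : G ⧸ M) = (g' : G ⧸ M)) : d.two g = d.two g' := by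
  have hm := QuotientGroup.eq.mp h
  ext x
  rw [d.mem_two, d.mem_two]
  refine and_congr_right fun _ => ⟨fun hx => ?_, fun hx => ?_⟩
  · convert M.mul_mem (M.mul_mem (M.inv_mem hm) hx) hm using 1; group
  · convert M.mul_mem (M.mul_mem hm hx) (M.inv_mem hm) using 1; group

theorem mem_normalizer_two {u : G} (hu : orderOf u = 2) :
    u ∈ Subgroup.normalizer (d.two u : Set G) := by
  have huu := conj_inv_self hu
  have h2 : u * u = 1 := by rw [← pow_two, ← hu, pow_orderOf_eq_one]
  have key : ∀ x, x ∈ d.two u → u * x * u⁻¹ ∈ d.two u := by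
    intro x hx
    obtain ⟨h1, h3⟩ := d.mem_two.mp hx
    rw [huu] at h3
    refine d.mem_two.mpr ⟨by rw [huu]; exact h3, ?_⟩
    rw [show u⁻¹ * (u * x * u⁻¹) * u = x by group]
    exact h1
  refine Subgroup.mem_normalizer_iff.mpr fun x => ⟨key x, fun hx => ?_⟩
  have := key _ hx
  rw [huu] at this
  rwa [show u * (u * x * u) * u = x by
    calc u * (u * x * u) * u = (u * u) * x * (u * u) := by group
      _ = x := by rw [h2, one_mul, mul_one]] at this

/-- Each involution outside `M` inverts an element of order `p` of `M`. -/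
theorem exists_inverted {u : G} (hu : orderOf u = 2) (huM : u ∉ M) :
    ∃ x ∈ d.two u, orderOf x = p ∧ u * x * u⁻¹ = x⁻¹ := by
  have h := d.card_invs (u : G ⧸ M)
  have hnt : Nontrivial (d.invs (u : G ⧸ M)) :=
    Finite.one_lt_card_iff_nontrivial.mp (by rw [h]; exact hp.out.one_lt)
  obtain ⟨⟨v, hv, hvq⟩, hne⟩ := exists_ne (⟨u, hu, rfl⟩ : d.invs (u : G ⧸ M))
  have huu := conj_inv_self hu
  have hvv := conj_inv_self hv
  have h2 : u * u = 1 := by rw [← pow_two, ← hu, pow_orderOf_eq_one]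
  have hinv : u * (u⁻¹ * v) * u⁻¹ = (u⁻¹ * v)⁻¹ := by
    rw [mul_inv_rev, inv_inv, hvv, huu, ← mul_assoc u u v, h2, one_mul]
  have h1 : u⁻¹ * v ∈ M := QuotientGroup.eq.mp hvq.symm
  have hmem : u⁻¹ * v ∈ d.two u := d.mem_two.mpr ⟨h1, by
    have h3 := M.inv_mem h1
    rw [← hinv] at h3
    simpa [huu] using h3⟩
  refine ⟨_, hmem, ?_, hinv⟩
  exact orderOf_eq_prime (d.two_pow huM hmem)
    (fun h0 => hne (Subtype.ext (inv_mul_eq_one.mp h0).symm))

/-- The Sylow `p`-subgroups of `M` have order `p`. -/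
theorem card_sylow (P : Sylow p M) : Nat.card (P : Subgroup M) = p := by
  classical
  set PG := (P : Subgroup M).map M.subtype with hPG
  have hPGp : IsPGroup p PG := P.2.map _
  have hPGM : PG ≤ M := Subgroup.map_subtype_le _
  rw [← Subgroup.card_subtype M (P : Subgroup M)]
  show Nat.card PG = p
  obtain ⟨k, hk⟩ := IsPGroup.iff_card.mp hPGp
  by_contra hne
  have hpM : p ∣ Nat.card M := by
    rw [← d.index₁]
    exact Subgroup.relIndex_dvd_card M₁ M |>.trans dvd_rfl
  have hk2 : 2 ≤ k := by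
    rcases k with _ | _ | k
    · exfalso
      have h1 : p ∣ Nat.card (P : Subgroup M) := P.dvd_card_of_dvd_card hpM
      rw [← Subgroup.card_subtype M (P : Subgroup M), ← hPG, hk] at h1
      simp at h1
      exact hp.out.ne_one h1
    · exact absurd (by rw [hk]; simp) hne
    · omega
  have hmax : ∀ A : Subgroup G, IsPGroup p A → A ≤ M → Nat.card A ≤ Nat.card PG := by
    intro A hA hAM
    obtain ⟨Q, hQ⟩ := (hA.of_equiv (Subgroup.subgroupOfEquivOfLe hAM).symm).exists_le_sylow
    rw [← Nat.card_congr (Subgroup.subgroupOfEquivOfLe hAM).toEquiv, hPG, Subgroup.card_subtype,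
      P.card_eq_multiplicity, ← Q.card_eq_multiplicity]
    exact Subgroup.card_le_of_le hQ
  -- an inverted element of `PG`
  obtain ⟨g₀, hg₀⟩ : ∃ g : G, g ∉ M := by
    by_contra hcon
    push Not at hcon
    exact d.ne_top (eq_top_iff.mpr fun g _ => hcon g)
  obtain ⟨u₁, hu₁, hu₁q⟩ := d.exists_invol (g := g₀)
  have hu₁M : u₁ ∉ M := fun h => hg₀ (by
    have := M.mul_mem h (QuotientGroup.eq.mp hu₁q); simpa using this)
  obtain ⟨x₁, hx₁, hx₁o, hx₁i⟩ := d.exists_inverted hu₁ hu₁M
  obtain ⟨m, hm⟩ : ∃ m : M, (m : G) * x₁ * (m : G)⁻¹ ∈ PG := by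
    have h1 : IsPGroup p (Subgroup.zpowers (⟨x₁, (d.mem_two.mp hx₁).1⟩ : M)) :=
      IsPGroup.of_card (n := 1) (by rw [Nat.card_zpowers, Subgroup.orderOf_mk, hx₁o, pow_one])
    obtain ⟨Q, hQ⟩ := h1.exists_le_sylow
    obtain ⟨m, rfl⟩ := MulAction.exists_smul_eq M Q P
    refine ⟨m, ⟨m * ⟨x₁, (d.mem_two.mp hx₁).1⟩ * m⁻¹, ?_, rfl⟩⟩
    rw [Sylow.coe_subgroup_smul]
    exact ⟨_, hQ (Subgroup.mem_zpowers _), rfl⟩
  set x := (m : G) * x₁ * (m : G)⁻¹ with hxd
  set u := (m : G) * u₁ * (m : G)⁻¹ with hud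
  have hx : orderOf x = p := ((MulAut.conj (m : G)).orderOf_eq x₁).trans hx₁o
  have hu : orderOf u = 2 := ((MulAut.conj (m : G)).orderOf_eq u₁).trans hu₁
  have hxu : u * x * u⁻¹ = x⁻¹ := by
    calc u * x * u⁻¹ = m * (u₁ * x₁ * u₁⁻¹) * (m : G)⁻¹ := by rw [hxd, hud]; group
      _ = _ := by rw [hx₁i, hxd]; group
  set C := Subgroup.centralizer ({x} : Set G) with hC
  have hCu : Subgroup.zpowers u ≤ Subgroup.normalizer (C : Set G) := by
    refine (Subgroup.zpowers_le).mpr ?_
    have key : ∀ c ∈ C, u * c * u⁻¹ ∈ C := by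
      intro c hc
      rw [hC, Subgroup.mem_centralizer_singleton_iff] at hc ⊢
      have h2 : x = u * x⁻¹ * u⁻¹ := by
        calc x = (u * x * u⁻¹)⁻¹ := by rw [hxu, inv_inv]
          _ = _ := by group
      calc u * c * u⁻¹ * x = u * c * u⁻¹ * (u * x⁻¹ * u⁻¹) := by rw [← h2]
        _ = u * (c * x⁻¹) * u⁻¹ := by group
        _ = u * (x⁻¹ * c) * u⁻¹ := by rw [(Commute.inv_right (hc : Commute c x)).eq]
        _ = u * x⁻¹ * u⁻¹ * (u * c * u⁻¹) := by group
        _ = x * (u * c * u⁻¹) := by rw [← h2]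
    refine Subgroup.mem_normalizer_iff.mpr fun c => ⟨key c, fun hc => ?_⟩
    have := key _ hc
    have huu := conj_inv_self hu
    rw [huu] at this
    rwa [show u * (u * c * u) * u = c by
      calc u * (u * c * u) * u = (u * u) * c * (u * u) := by group
        _ = c := by rw [← pow_two, ← hu, pow_orderOf_eq_one, one_mul, mul_one]] at this
  have hCodd := d.odd_centralizer hx hu hxu
  obtain ⟨Q, hQu⟩ := H1.exists_invariant_sylow hCu (by
    rw [Nat.card_zpowers, hu]; exact Nat.prime_two.coprime_iff_not_dvd.mpr hCodd)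
    (Or.inl inferInstance) p
  set A := (Q : Subgroup C).map C.subtype with hA
  have hxC : x ∈ C := Subgroup.mem_centralizer_singleton_iff.mpr rfl
  have hxA : x ∈ A := by
    refine ⟨⟨x, hxC⟩, ?_, rfl⟩
    have hc : (⟨x, hxC⟩ : C) ∈ Subgroup.center C := Subgroup.mem_center_iff.mpr fun c =>
      Subtype.ext (Subgroup.mem_centralizer_singleton_iff.mp c.2)
    have hn : (Subgroup.zpowers (⟨x, hxC⟩ : C)).Normal := ⟨fun y hy c => by
      rw [Subgroup.mem_center_iff.mp ((Subgroup.zpowers_le).mpr hc hy) c, mul_inv_cancel_right]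
      exact hy⟩
    exact (IsPGroup.of_card (n := 1) (by rw [Nat.card_zpowers, Subgroup.orderOf_mk, hx, pow_one]) :
      IsPGroup p (Subgroup.zpowers (⟨x, hxC⟩ : C))).le_sylow_of_normal Q (Subgroup.mem_zpowers _)
  have hAcard : p ^ 2 ≤ Nat.card A := by
    have hB : p ^ 2 ≤ Nat.card ↥(PG ⊓ C) := by
      have hlt : Subgroup.zpowers x < PG ⊓ C := by
        refine lt_of_le_of_ne ((Subgroup.zpowers_le).mpr ⟨hm, hxC⟩) fun he => ?_
        haveI : Nontrivial PG := Finite.one_lt_card_iff_nontrivial.mp (by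
          rw [hk]; exact Nat.one_lt_pow (by omega) hp.out.one_lt)
        haveI := hPGp.center_nontrivial
        obtain ⟨⟨z, hz⟩, hz'⟩ := Subgroup.ne_bot_iff_exists_ne_one.mp
          ((Subgroup.nontrivial_iff_ne_bot (Subgroup.center PG)).mp inferInstance)
        have hz1 : z ≠ 1 := fun h => hz' (Subtype.ext h)
        have hzmem : (z : G) ∈ Subgroup.zpowers x := by
          rw [he]
          exact ⟨z.2, Subgroup.mem_centralizer_singleton_iff.mpr
            (congrArg Subtype.val (Subgroup.mem_center_iff.mp hz ⟨x, hm⟩)).symm⟩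
        have hgen : Subgroup.zpowers (z : G) = Subgroup.zpowers x := by
          refine Subgroup.eq_of_le_of_card_ge ((Subgroup.zpowers_le).mpr hzmem) ?_
          rw [Nat.card_zpowers, Nat.card_zpowers, hx]
          rcases hp.out.eq_one_or_self_of_dvd _ (hx ▸ orderOf_dvd_of_mem_zpowers hzmem) with h | h
          · exact absurd (Subtype.ext (orderOf_eq_one_iff.mp h)) hz1
          · exact h.ge
        have hall : PG ≤ C := fun y hy => by
          have hxm : x ∈ Subgroup.zpowers (z : G) := hgen ▸ Subgroup.mem_zpowers x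
          obtain ⟨i, hi⟩ := Subgroup.mem_zpowers_iff.mp hxm
          refine Subgroup.mem_centralizer_singleton_iff.mpr ?_
          rw [← hi]
          exact ((Commute.zpow_right (congrArg Subtype.val
            (Subgroup.mem_center_iff.mp hz ⟨y, hy⟩) : Commute y (z : G)) i)).eq
        have : Nat.card PG ≤ p := by
          rw [← hx, ← Nat.card_zpowers, he, inf_eq_left.mpr hall]
        rw [hk] at this
        exact absurd (Nat.le_self_pow (show k ≠ 0 by omega) p |>.antisymm this)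
          (fun h => by
            have := Nat.pow_right_injective hp.out.two_le (show p ^ 1 = p ^ k by rw [pow_one]; exact h)
            omega)
      obtain ⟨j, hj⟩ := IsPGroup.iff_card.mp (hPGp.to_le inf_le_left : IsPGroup p ↥(PG ⊓ C))
      have hlt' : p ^ 1 < p ^ j := by
        rw [pow_one, ← hj, ← hx, ← Nat.card_zpowers]
        exact lt_of_le_of_ne (Subgroup.card_le_of_le hlt.le)
          fun h => hlt.ne (Subgroup.eq_of_le_of_card_ge hlt.le h.ge)
      rw [hj]
      exact Nat.pow_le_pow_right hp.out.pos ((Nat.pow_lt_pow_iff_right hp.out.one_lt).mp hlt')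
    refine hB.trans ?_
    obtain ⟨Q', hQ'⟩ := ((hPGp.to_le inf_le_left : IsPGroup p ↥(PG ⊓ C)).of_equiv
      (Subgroup.subgroupOfEquivOfLe inf_le_right).symm).exists_le_sylow
    rw [hA, Subgroup.card_subtype, Q.card_eq_multiplicity, ← Q'.card_eq_multiplicity,
      ← Nat.card_congr (Subgroup.subgroupOfEquivOfLe (inf_le_right : PG ⊓ C ≤ C)).toEquiv]
    exact Subgroup.card_le_of_le hQ'
  have huA : u ∈ Subgroup.normalizer (A : Set G) := hQu (Subgroup.mem_zpowers u)
  -- `M.index` is not `1` modulo `p`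
  have hn1 : ¬ M.index ≡ 1 [MOD p] := by
    intro h1
    have heven := d.even_fixed hx hu hxu hxA huA
    have hmod := (d.index_modEq (Q.2.map C.subtype : IsPGroup p A)).symm.trans h1
    set F := Nat.card (MulAction.fixedPoints A (G ⧸ M))
    have hF1 : F % p = 1 := by
      rw [hmod]; exact Nat.mod_eq_of_lt hp.out.one_lt
    rcases hAcard.eq_or_lt with h2 | h2
    · have hle := d.fixed_le_p h2.symm hx hu hxu hxA
      have : F ≠ p := fun e => by rw [e, Nat.mod_self] at hF1; omega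
      rw [Nat.mod_eq_of_lt (lt_of_le_of_ne hle this)] at hF1
      omega
    · have hle := d.fixed_le_one h2
      have : F ≠ 0 := fun e => by rw [e, Nat.zero_mod] at hF1; omega
      omega
  -- `PG` fixes a second point
  obtain ⟨g, hg, hgM⟩ : ∃ g : G, (∀ a ∈ PG, g⁻¹ * a * g ∈ M) ∧ g ∉ M := by
    by_contra hcon
    push Not at hcon
    refine hn1 ((d.index_modEq hPGp).trans ?_)
    have : Nat.card (MulAction.fixedPoints PG (G ⧸ M)) = 1 := by
      refine Nat.card_eq_one_iff_unique.mpr ⟨⟨fun q₁ q₂ => ?_⟩,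
        ⟨⟨((1 : G) : G ⧸ M), d.fixed_iff.mpr fun a ha => by simpa using hPGM ha⟩⟩⟩
      have hb : ∀ q : MulAction.fixedPoints PG (G ⧸ M), q.1 = ((1 : G) : G ⧸ M) := fun q => by
        obtain ⟨h, e⟩ := QuotientGroup.mk_surjective q.1
        rw [← e, QuotientGroup.eq, mul_one]
        exact M.inv_mem (hcon h (d.fixed_iff.mp (e ▸ q.2)))
      exact Subtype.ext ((hb q₁).trans (hb q₂).symm)
    rw [this]
  obtain ⟨u, hu, huq⟩ := d.exists_invol (g := g)
  have huM : u ∉ M := fun h => hgM (by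
    have := M.mul_mem h (QuotientGroup.eq.mp huq); simpa using this)
  -- `P₀ = M ∩ M^u` is `PG`
  set P₀ := d.two u with hP₀
  have hle : PG ≤ P₀ := fun a ha => by
    rw [hP₀, d.two_eq_of_coset huq]
    exact d.mem_two.mpr ⟨hPGM ha, hg a ha⟩
  have hP₀eq : PG = P₀ := Subgroup.eq_of_le_of_card_ge hle
    (hmax P₀ (d.two_isPGroup huM) inf_le_left)
  have hcard : Nat.card PG = p ^ 2 := by
    refine le_antisymm (hP₀eq ▸ d.two_card huM) ?_
    rw [hk]; exact Nat.pow_le_pow_right hp.out.pos hk2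
  have huN : u ∈ Subgroup.normalizer (PG : Set G) := hP₀eq ▸ d.mem_normalizer_two hu
  obtain ⟨x, hxP, hx, hxu⟩ := d.exists_inverted hu huM
  rw [← hP₀, ← hP₀eq] at hxP
  have hcommP : ∀ a ∈ PG, ∀ b ∈ PG, a * b = b * a := fun a ha b hb =>
    d.two_comm huM (hle ha) (hle hb)
  haveI : IsMulCommutative PG := ⟨⟨fun a b => Subtype.ext (hcommP a a.2 b b.2)⟩⟩
  set F := Nat.card (MulAction.fixedPoints PG (G ⧸ M)) with hF
  have hFle : F ≤ p := d.fixed_le_p hcard hx hu hxu hxP
  have hFeven : 2 ∣ F := d.even_fixed hx hu hxu hxP huN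
  have hFpos : 0 < F :=
    haveI : Nonempty (MulAction.fixedPoints PG (G ⧸ M)) :=
      ⟨⟨((1 : G) : G ⧸ M), d.fixed_iff.mpr fun a ha => by simpa using hPGM ha⟩⟩
    Nat.card_pos
  have hFne : F ≠ p := fun e => by
    rcases (Nat.prime_dvd_prime_iff_eq Nat.prime_two hp.out).mp (e ▸ hFeven) with h
    exact d.ctx.two_ne h.symm
  have hidx : ¬ p ∣ M.index := by
    intro h
    have h1 := (d.index_modEq hPGp).symm.trans (Nat.modEq_zero_iff_dvd.mpr h)
    rw [Nat.modEq_zero_iff_dvd] at h1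
    exact hFne (le_antisymm hFle (Nat.le_of_dvd hFpos h1))
  let T : Sylow p G := Sylow.ofCard PG (by
    rw [hPG, Subgroup.card_subtype, P.card_eq_multiplicity, ← Subgroup.card_mul_index M,
      Nat.factorization_mul Nat.card_pos.ne' Subgroup.index_ne_zero_of_finite, Finsupp.add_apply,
      Nat.factorization_eq_zero_of_not_dvd hidx, add_zero])
  -- a nontrivial element of `PG` in `M₁`
  obtain ⟨l, hlP, hl1, hlM⟩ : ∃ l ∈ PG, l ≠ 1 ∧ l ∈ M₁ := by
    by_contra hcon
    push Not at hcon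
    have h1 : Nat.card PG ≤ p := by
      refine le_of_le_of_eq (Nat.card_le_card_of_injective
        (fun a : PG => QuotientGroup.mk (s := M₁.subgroupOf M) (⟨a, hPGM a.2⟩ : M))
        fun a b hab => ?_) d.quot_card
      simp only [QuotientGroup.eq, Subgroup.mem_subgroupOf] at hab
      refine Subtype.ext (inv_mul_eq_one.mp ?_)
      by_contra hne
      exact hcon _ (PG.mul_mem (PG.inv_mem a.2) b.2) hne hab
    rw [hcard] at h1
    nlinarith [hp.out.two_le]
  have hconjP : ∀ {a z : G}, a ∈ Subgroup.normalizer (PG : Set G) → z ∈ PG → a * z * a⁻¹ ∈ PG :=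
    fun ha hz => (Subgroup.mem_normalizer_iff.mp ha _).mp hz
  set y := l * (u * l * u⁻¹) with hy
  have hyP : y ∈ PG := PG.mul_mem hlP (hconjP huN hlP)
  have huu : u * u = 1 := by rw [← pow_two, ← hu, pow_orderOf_eq_one]
  have hyu : u * y * u⁻¹ = y := by
    rw [hy, conj_inv_self hu]
    calc u * (l * (u * l * u)) * u = u * l * u * ((u * u)⁻¹ * (u * u)) * (l * (u * u)) := by group
      _ = u * l * u * l := by rw [huu, inv_one, one_mul, mul_one, mul_one]
      _ = l * (u * l * u) := hcommP _ (by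
          have := hconjP huN hlP
          rwa [conj_inv_self hu] at this) l hlP
  -- inverting an element of `PG ⊓ M₁` is impossible for elements of `N(PG)`
  have hNM : ∀ a ∈ Subgroup.normalizer (PG : Set G), a ∈ M →
      ∀ z ∈ PG, a * z * a⁻¹ = z := by
    intro a ha haM z hz
    have hN : Subgroup.normalizer (PG : Set G) ≠ ⊤ :=
      d.ctx.normalizer_ne_top (fun h0 => hl1 (Subgroup.mem_bot.mp (h0 ▸ hlP)))
        (d.ctx.pgroup_ne_top hPGp)
    obtain ⟨H, -, hHN, hH, j, hj⟩ := d.ctx.exists_hall_ge hN (bot_le : (⊥ : Subgroup G) ≤ _)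
      (by rw [Subgroup.card_bot]; exact Nat.coprime_one_left p)
    have hsup : PG ⊔ H = Subgroup.normalizer (PG : Set G) := by
      refine Subgroup.eq_of_le_of_card_ge (sup_le Subgroup.le_normalizer hHN) ?_
      have hcop : (Nat.card PG).Coprime (Nat.card H) := by
        rw [hcard]; exact Nat.Coprime.pow_left _ hH.symm
      rw [H1.card_sup_of_coprime hHN hcop, hj, mul_comm (Nat.card PG)]
      refine Nat.mul_le_mul_left _ ?_
      have h1 : p ^ j ∣ Nat.card G := (Dvd.intro_left _ hj.symm).trans (Subgroup.card_subgroup_dvd_card _)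
      have h2 := T.card_eq_multiplicity
      show p ^ j ≤ Nat.card (T : Subgroup G)
      rw [h2]
      exact Nat.pow_le_pow_right hp.out.pos
        ((hp.out.pow_dvd_iff_le_factorization Nat.card_pos.ne').mp h1)
    have hdec : ∀ c ∈ Subgroup.normalizer (PG : Set G), ∃ c' ∈ H,
        ∀ w ∈ PG, c * w * c⁻¹ = c' * w * c'⁻¹ := by
      intro c hc
      rw [← hsup, sup_comm] at hc
      have hset := Subgroup.coe_mul_of_left_le_normalizer_right H PG hHN
      rw [← SetLike.mem_coe, hset] at hc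
      obtain ⟨c', hc', r, hr, rfl⟩ := hc
      refine ⟨c', hc', fun w hw => ?_⟩
      calc c' * r * w * (c' * r)⁻¹ = c' * (r * w * r⁻¹) * c'⁻¹ := by group
        _ = c' * w * c'⁻¹ := by rw [hcommP r hr w hw, mul_inv_cancel_right]
    obtain ⟨a', ha', hacta⟩ := hdec a ha
    obtain ⟨u', hu', hactu⟩ := hdec u huN
    have hswap : ∀ w ∈ PG, u * (a * w * a⁻¹) * u⁻¹ = a * (u * w * u⁻¹) * a⁻¹ := by
      intro w hw
      rw [hactu _ (hconjP ha hw), hacta w hw, hacta _ (hconjP huN hw), hactu w hw]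
      calc u' * (a' * w * a'⁻¹) * u'⁻¹ = (u' * a') * w * (u' * a')⁻¹ := by group
        _ = (a' * u') * w * (a' * u')⁻¹ := by rw [d.ctx.comm_of_coprime hH hu' ha']
        _ = _ := by group
    have hc : a⁻¹ * u * a * u⁻¹ ∈ Subgroup.centralizer (PG : Set G) := by
      intro w hw
      have h1 := hswap (u⁻¹ * w * u) (by
        have := hconjP (Subgroup.inv_mem _ huN) hw
        simpa using this)
      have h2 : u * (u⁻¹ * w * u) * u⁻¹ = w := by group
      rw [h2] at h1
      calc w * (a⁻¹ * u * a * u⁻¹) = a⁻¹ * (a * w * a⁻¹) * u * a * u⁻¹ := by group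
        _ = a⁻¹ * (u * (a * (u⁻¹ * w * u) * a⁻¹) * u⁻¹) * u * a * u⁻¹ := by rw [h1]
        _ = _ := by group
    have hcM : a⁻¹ * u * a * u⁻¹ ∈ M := d.centralizer_le hlM hl1
      (Subgroup.mem_centralizer_singleton_iff.mpr (hc l hlP).symm)
    have h3 : u * a * u⁻¹ ∈ M := by
      have := M.mul_mem haM hcM
      convert this using 1; group
    have h4 : a ∈ PG := hP₀eq ▸ d.mem_two.mpr ⟨haM, by
      rw [conj_inv_self hu] at h3 ⊢; exact h3⟩
    rw [hcommP a h4 z hz, mul_inv_cancel_right]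
  have hnoinv : ∀ a ∈ Subgroup.normalizer (PG : Set G), a * l * a⁻¹ ≠ l⁻¹ := by
    intro a ha hinv
    by_cases haM : a ∈ M
    · rw [hNM a ha haM l hlP] at hinv
      have h2 : l ^ 2 = 1 := by
        rw [pow_two]; exact mul_eq_one_iff_eq_inv.mpr hinv
      have h3 := (Nat.coprime_primes hp.out Nat.prime_two).mpr d.ctx.two_ne
      exact hl1 (orderOf_eq_one_iff.mp (Nat.eq_one_of_dvd_coprimes h3
        (orderOf_dvd_of_pow_eq_one (d.two_pow huM (hle hlP))) (orderOf_dvd_of_pow_eq_one h2)))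
    · refine hl1 (d.eq_one_of_two hlM (g := a) ?_ haM)
      have h1 : a⁻¹ * l * a = l⁻¹ := by
        calc a⁻¹ * l * a = (a⁻¹ * (a * l * a⁻¹) * a)⁻¹ := by rw [hinv]; group
          _ = l⁻¹ := by group
      rw [h1]; exact M₁.inv_mem hlM
  have hy1 : y ≠ 1 := by
    intro h0
    exact hnoinv u huN (mul_eq_one_iff_inv_eq.mp h0).symm
  -- `PG` is generated by `y` and `x`
  have hyo : orderOf y = p := orderOf_eq_prime (d.two_pow huM (hle hyP)) hy1
  have hgenP : Subgroup.zpowers y ⊔ Subgroup.zpowers x = PG := by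
    refine Subgroup.eq_of_le_of_card_ge
      (sup_le ((Subgroup.zpowers_le).mpr hyP) ((Subgroup.zpowers_le).mpr hxP)) ?_
    have hlt : Subgroup.zpowers y < Subgroup.zpowers y ⊔ Subgroup.zpowers x := by
      refine SetLike.lt_iff_le_and_exists.mpr ⟨le_sup_left, x,
        Subgroup.mem_sup_right (Subgroup.mem_zpowers x), fun hmem => ?_⟩
      obtain ⟨i, hi⟩ := Subgroup.mem_zpowers_iff.mp hmem
      have h1 : u * x * u⁻¹ = x := by rw [← hi, ← conj_zpow, hyu]
      rw [hxu] at h1
      have h2 : x ^ 2 = 1 := by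
        rw [pow_two]; nth_rewrite 1 [← h1]; exact inv_mul_cancel x
      have := Nat.le_of_dvd two_pos (hx ▸ orderOf_dvd_of_pow_eq_one h2)
      have := d.ctx.five
      omega
    obtain ⟨j, hj⟩ := IsPGroup.iff_card.mp (hPGp.to_le
      (sup_le ((Subgroup.zpowers_le).mpr hyP) ((Subgroup.zpowers_le).mpr hxP)))
    have h1 : p ^ 1 < p ^ j := by
      rw [pow_one, ← hj, ← hyo, ← Nat.card_zpowers]
      exact lt_of_le_of_ne (Subgroup.card_le_of_le hlt.le)
        fun h => hlt.ne (Subgroup.eq_of_le_of_card_ge hlt.le h.ge)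
    rw [hcard, hj]
    exact Nat.pow_le_pow_right hp.out.pos ((Nat.pow_lt_pow_iff_right hp.out.one_lt).mp h1)
  have hext : ∀ a ∈ Subgroup.normalizer (PG : Set G), a * y * a⁻¹ = y⁻¹ → a * x * a⁻¹ = x⁻¹ → False := by
    intro a ha h1 h2
    refine hnoinv a ha ?_
    have hS : ∀ w ∈ PG, a * w * a⁻¹ = w⁻¹ := by
      intro w hw
      rw [← hgenP] at hw
      have hsup : Subgroup.zpowers y ⊔ Subgroup.zpowers x = Subgroup.closure {y, x} := by
        rw [Subgroup.zpowers_eq_closure, Subgroup.zpowers_eq_closure, ← Subgroup.closure_union,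
          Set.singleton_union]
      rw [hsup] at hw
      have hin : ∀ w ∈ Subgroup.closure ({y, x} : Set G), w ∈ PG := fun w hw =>
        (Subgroup.closure_le PG).mpr (by rintro w (rfl | rfl) <;> assumption) hw
      induction hw using Subgroup.closure_induction with
      | mem w hw => rcases hw with rfl | rfl <;> assumption
      | one => group
      | mul v w hv hw e1 e2 =>
        rw [← conj_mul, e1, e2, mul_inv_rev, hcommP _ (PG.inv_mem (hin v hv)) _ (PG.inv_mem (hin w hw))]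
      | inv v hv e1 => rw [← conj_inv, e1]
    exact hS l hlP
  -- every element of `N(PG)` centralises `y`
  have hcen : ∀ a ∈ Subgroup.normalizer (PG : Set G), a * y * a⁻¹ = y := by
    intro a ha
    by_cases haM : a ∈ M
    · exact hNM a ha haM y hyP
    obtain ⟨v, hv, hvq⟩ := d.exists_invol (g := a)
    have hvM : v ∉ M := fun h => haM (by
      have := M.mul_mem h (QuotientGroup.eq.mp hvq); simpa using this)
    have hPv : PG = d.two v := by
      refine Subgroup.eq_of_le_of_card_ge (fun w hw => ?_) (hmax _ (d.two_isPGroup hvM) inf_le_left)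
      rw [d.two_eq_of_coset hvq]
      refine d.mem_two.mpr ⟨hPGM hw, hPGM ?_⟩
      have := hconjP (Subgroup.inv_mem _ ha) hw
      simpa using this
    have hvN : v ∈ Subgroup.normalizer (PG : Set G) := hPv ▸ d.mem_normalizer_two hv
    have hvv : v * v = 1 := by rw [← pow_two, ← hv, pow_orderOf_eq_one]
    have hd : ∀ w ∈ PG, (v⁻¹ * a) * w * (v⁻¹ * a)⁻¹ = w := hNM _
      (Subgroup.mul_mem _ (Subgroup.inv_mem _ hvN) ha) (QuotientGroup.eq.mp hvq)
    suffices hvy : v * y * v⁻¹ = y by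
      calc a * y * a⁻¹ = v * ((v⁻¹ * a) * y * (v⁻¹ * a)⁻¹) * v⁻¹ := by group
        _ = y := by rw [hd y hyP, hvy]
    -- `u v` and `v u` agree on `PG`
    have huv : ∀ w ∈ PG, u * (v * w * v⁻¹) * u⁻¹ = v * (u * w * u⁻¹) * v⁻¹ := by
      intro w hw
      have hN : Subgroup.normalizer (PG : Set G) ≠ ⊤ :=
        d.ctx.normalizer_ne_top (fun h0 => hl1 (Subgroup.mem_bot.mp (h0 ▸ hlP)))
          (d.ctx.pgroup_ne_top hPGp)
      -- the commutator of `u` and `v` acts trivially: it lies in a subgroup of order prime to `p`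
      obtain ⟨H, hHu, hHN, hH, j, hj⟩ := d.ctx.exists_hall_ge hN
        ((Subgroup.zpowers_le).mpr huN : Subgroup.zpowers u ≤ _)
        (by rw [Nat.card_zpowers, hu]; exact (Nat.coprime_primes Nat.prime_two hp.out).mpr d.ctx.two_ne.symm)
      have hsup : H ⊔ PG = Subgroup.normalizer (PG : Set G) := by
        rw [sup_comm]
        refine Subgroup.eq_of_le_of_card_ge (sup_le Subgroup.le_normalizer hHN) ?_
        have hcop : (Nat.card PG).Coprime (Nat.card H) := by
          rw [hcard]; exact Nat.Coprime.pow_left _ hH.symm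
        rw [H1.card_sup_of_coprime hHN hcop, hj, mul_comm (Nat.card PG)]
        refine Nat.mul_le_mul_left _ ?_
        have h1 : p ^ j ∣ Nat.card G :=
          (Dvd.intro_left _ hj.symm).trans (Subgroup.card_subgroup_dvd_card _)
        show p ^ j ≤ Nat.card (T : Subgroup G)
        rw [T.card_eq_multiplicity]
        exact Nat.pow_le_pow_right hp.out.pos
          ((hp.out.pow_dvd_iff_le_factorization Nat.card_pos.ne').mp h1)
      have hvS : v ∈ ((H ⊔ PG : Subgroup G) : Set G) := hsup.symm ▸ hvN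
      rw [Subgroup.coe_mul_of_left_le_normalizer_right H PG hHN] at hvS
      obtain ⟨v', hv', r, hr, hvr⟩ := hvS
      have hact : ∀ w ∈ PG, v * w * v⁻¹ = v' * w * v'⁻¹ := fun w hw => by
        rw [← hvr]
        calc v' * r * w * (v' * r)⁻¹ = v' * (r * w * r⁻¹) * v'⁻¹ := by group
          _ = _ := by rw [hcommP r hr w hw, mul_inv_cancel_right]
      rw [hact w hw, hact _ (hconjP huN hw)]
      calc u * (v' * w * v'⁻¹) * u⁻¹ = (u * v') * w * (u * v')⁻¹ := by group
        _ = (v' * u) * w * (v' * u)⁻¹ := by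
          rw [d.ctx.comm_of_coprime hH (hHu (Subgroup.mem_zpowers u)) hv']
        _ = _ := by group
    have hgen1 : ∀ z : G, z ∈ Subgroup.zpowers y → z ≠ 1 → v * z * v⁻¹ = z → v * y * v⁻¹ = y := by
      intro z hz hz1 hvz
      have : Subgroup.zpowers z = Subgroup.zpowers y := by
        refine Subgroup.eq_of_le_of_card_ge ((Subgroup.zpowers_le).mpr hz) ?_
        rw [Nat.card_zpowers, Nat.card_zpowers, hyo]
        rcases hp.out.eq_one_or_self_of_dvd _ (hyo ▸ orderOf_dvd_of_mem_zpowers hz) with h | h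
        · exact absurd (orderOf_eq_one_iff.mp h) hz1
        · exact h.ge
      obtain ⟨i, hi⟩ := Subgroup.mem_zpowers_iff.mp (this ▸ Subgroup.mem_zpowers y)
      rw [← hi, ← conj_zpow, hvz]
    -- decomposition in the eigenspaces of `u`
    have heig : ∀ w ∈ PG, ∃ i j : ℤ, w = y ^ i * x ^ j := by
      intro w hw
      rw [← hgenP, ← SetLike.mem_coe, Subgroup.coe_mul_of_left_le_normalizer_right _ _
        ((Subgroup.zpowers_le).mpr (Subgroup.mem_normalizer_iff.mpr fun z => by
          constructor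
          · intro hz
            rwa [hcommP y hyP z ((Subgroup.zpowers_le).mpr hxP hz), mul_inv_cancel_right]
          · intro hz
            have hzP : z ∈ PG := by
              have := (Subgroup.zpowers_le).mpr hxP hz
              have h2 := PG.mul_mem (PG.mul_mem (PG.inv_mem hyP) this) hyP
              convert h2 using 1; group
            rwa [hcommP y hyP z hzP, mul_inv_cancel_right] at hz))] at hw
      obtain ⟨_, ⟨i, rfl⟩, _, ⟨j, rfl⟩, rfl⟩ := hw
      exact ⟨i, j, rfl⟩
    have hux : ∀ i j : ℤ, u * (y ^ i * x ^ j) * u⁻¹ = y ^ i * (x ^ j)⁻¹ := fun i j => by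
      rw [← conj_mul, ← conj_zpow, hyu, ← conj_zpow, hxu, inv_zpow]
    have hodd : ∀ z ∈ PG, z * z = 1 → z = 1 := fun z hz h2 => by
      have h3 := (Nat.coprime_primes hp.out Nat.prime_two).mpr d.ctx.two_ne
      exact orderOf_eq_one_iff.mp (Nat.eq_one_of_dvd_coprimes h3
        (orderOf_dvd_of_pow_eq_one (d.two_pow huM (hle hz)))
        (orderOf_dvd_of_pow_eq_one (by rw [pow_two]; exact h2)))
    set w := v * y * v⁻¹ with hw
    have hwP : w ∈ PG := hconjP hvN hyP
    have hwy : w ∈ Subgroup.zpowers y := by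
      obtain ⟨i, j, hij⟩ := heig w hwP
      have h1 : u * w * u⁻¹ = w := by rw [hw, huv y hyP, hyu]
      rw [hij, hux] at h1
      have h2 : x ^ j = 1 := hodd _ ((Subgroup.zpowers_le).mpr hxP ⟨j, rfl⟩)
        (by have := mul_left_cancel h1; nth_rewrite 1 [← this]; exact inv_mul_cancel _)
      rw [hij, h2, mul_one]
      exact ⟨i, rfl⟩
    by_cases hz : y * w = 1
    swap
    · refine hgen1 _ (Subgroup.mul_mem _ (Subgroup.mem_zpowers y) hwy) hz ?_
      rw [← conj_mul, ← hw]
      have : v * w * v⁻¹ = y := by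
        rw [hw, conj_inv_self hv]
        calc v * (v * y * v) * v = (v * v) * y * (v * v) := by group
          _ = y := by rw [hvv, one_mul, mul_one]
      rw [this]
      exact hcommP w hwP y hyP
    exfalso
    have hyinv : v * y * v⁻¹ = y⁻¹ := (inv_eq_of_mul_eq_one_right hz).symm
    set w' := v * x * v⁻¹ with hw'
    have hw'P : w' ∈ PG := hconjP hvN hxP
    have hwx : w' ∈ Subgroup.zpowers x := by
      obtain ⟨i, j, hij⟩ := heig w' hw'P
      have h1 : u * w' * u⁻¹ = w'⁻¹ := by rw [hw', huv x hxP, hxu, conj_inv]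
      rw [hij, hux, mul_inv_rev, hcommP _ (PG.inv_mem ((Subgroup.zpowers_le).mpr hxP ⟨j, rfl⟩)) _
        (PG.inv_mem ((Subgroup.zpowers_le).mpr hyP ⟨i, rfl⟩))] at h1
      have h2 : y ^ i = 1 := hodd _ ((Subgroup.zpowers_le).mpr hyP ⟨i, rfl⟩)
        (by have := mul_right_cancel h1; nth_rewrite 1 [this]; exact inv_mul_cancel _)
      rw [hij, h2, one_mul]
      exact ⟨j, rfl⟩
    by_cases hz' : x * w' = 1
    · exact hext v hvN hyinv (inv_eq_of_mul_eq_one_right hz').symm
    -- `v` fixes `x`, so `u v` inverts both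
    have hvx : v * x * v⁻¹ = x := by
      have hmem : x * w' ∈ Subgroup.zpowers x := Subgroup.mul_mem _ (Subgroup.mem_zpowers x) hwx
      have hgen : Subgroup.zpowers (x * w') = Subgroup.zpowers x := by
        refine Subgroup.eq_of_le_of_card_ge ((Subgroup.zpowers_le).mpr hmem) ?_
        rw [Nat.card_zpowers, Nat.card_zpowers, hx]
        rcases hp.out.eq_one_or_self_of_dvd _ (hx ▸ orderOf_dvd_of_mem_zpowers hmem) with h | h
        · exact absurd (orderOf_eq_one_iff.mp h) hz'
        · exact h.ge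
      have hfix : v * (x * w') * v⁻¹ = x * w' := by
        rw [← conj_mul, ← hw']
        have : v * w' * v⁻¹ = x := by
          rw [hw', conj_inv_self hv]
          calc v * (v * x * v) * v = (v * v) * x * (v * v) := by group
            _ = x := by rw [hvv, one_mul, mul_one]
        rw [this]
        exact hcommP w' hw'P x hxP
      obtain ⟨i, hi⟩ := Subgroup.mem_zpowers_iff.mp (hgen ▸ Subgroup.mem_zpowers x)
      rw [← hi, ← conj_zpow, hfix]
    refine hext (u * v) (Subgroup.mul_mem _ huN hvN) ?_ ?_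
    · calc u * v * y * (u * v)⁻¹ = u * (v * y * v⁻¹) * u⁻¹ := by group
        _ = y⁻¹ := by rw [hyinv, ← conj_inv, hyu]
    · calc u * v * x * (u * v)⁻¹ = u * (v * x * v⁻¹) * u⁻¹ := by group
        _ = x⁻¹ := by rw [hvx, hxu]
  haveI : IsMulCommutative (T : Subgroup G) := ‹IsMulCommutative PG›
  exact hy1 (d.ctx.eq_one_of_central T hyP fun a ha => mul_inv_eq_iff_eq_mul.mp (hcen a ha))

end FD

end H72.PrimeAbelian
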